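/-
Root data over `ℤ`: lattice facts and systems of positive roots.
-/
import Groth.Agent.RootBasic.Simple
import Mathlib.LinearAlgebra.RootSystem.Finite.Nondegenerate
import Mathlib.LinearAlgebra.RootSystem.WeylGroup

set_option autoImplicit false

namespace RootSysLib

open RootPairing RootBasicLib

variable {ι M N : Type*} [AddCommGroup M] [AddCommGroup N] {P : RootPairing ι ℤ M N}

theorem root_neg (i : ι) : P.root (P.reflectionPerm i i) = -P.root i := root_reflectionPerm_self P i

theorem neg_neg_idx (i : ι) :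
    P.reflectionPerm (P.reflectionPerm i i) (P.reflectionPerm i i) = i := by
  apply P.root.injective
  rw [root_neg, root_neg, neg_neg]

theorem root_eq_neg_iff {i j : ι} : P.root i = -P.root j ↔ i = P.reflectionPerm j j := by
  rw [← root_neg, P.root.injective.eq_iff]

theorem smul_left_inj {x : M} (P : RootPairing ι ℤ M N) {a b : ℤ} (hx : x ≠ 0)
    (h : a • x = b • x) : a = b := by
  by_contra hne
  exact hx (smul_eq_zero_imp P (sub_ne_zero.mpr hne) (by rw [sub_smul, h, sub_self]))

theorem smul_right_cancel (P : RootPairing ι ℤ M N) {a : ℤ} (ha : a ≠ 0) {x y : M}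
    (h : a • x = a • y) : x = y :=
  sub_eq_zero.mp (smul_eq_zero_imp P ha (by rw [smul_sub, h, sub_self]))

theorem nsmul_right_cancel (P : RootPairing ι ℤ M N) {a : ℕ} (ha : 0 < a) {x y : M}
    (h : a • x = a • y) : x = y :=
  smul_right_cancel P (a := (a : ℤ)) (by omega) (by rwa [natCast_zsmul, natCast_zsmul])

theorem root_mem_natSpan {S : Set ι} {i : ι} (hi : i ∈ S) : P.root i ∈ RootD.natSpan P S :=
  AddSubmonoid.subset_closure ⟨i, hi, rfl⟩

theorem natSpan_mono {S T : Set ι} (h : S ⊆ T) : RootD.natSpan P S ≤ RootD.natSpan P T :=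
  AddSubmonoid.closure_mono (Set.image_mono h)

theorem natSpan_le_span (S : Set ι) {x : M} (hx : x ∈ RootD.natSpan P S) :
    x ∈ Submodule.span ℤ (P.root '' S) :=
  AddSubmonoid.closure_le (S := (Submodule.span ℤ (P.root '' S)).toAddSubmonoid).mpr
    Submodule.subset_span hx

theorem span_le_range (S : Set ι) :
    Submodule.span ℤ (P.root '' S) ≤ Submodule.span ℤ (Set.range P.root) :=
  Submodule.span_mono (Set.image_subset_range _ _)

theorem natSpan_subset_span_range {S : Set ι} {x : M} (hx : x ∈ RootD.natSpan P S) :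
    x ∈ Submodule.span ℤ (Set.range P.root) :=
  span_le_range S (natSpan_le_span S hx)

variable [Finite ι]

theorem eq_zero_of_coroot'_eq_zero {x : M} (hx : x ∈ Submodule.span ℤ (Set.range P.root))
    (h : ∀ i, P.coroot' i x = 0) : x = 0 := by
  let _ := Fintype.ofFinite ι
  by_contra hne
  obtain ⟨i, hi⟩ := P.exists_coroot_ne ℤ (x := (⟨x, hx⟩ : P.rootSpan ℤ))
    fun he => hne (congrArg Subtype.val he)
  refine hi ?_
  have := P.algebraMap_coroot'In_apply ℤ i (⟨x, hx⟩ : P.rootSpan ℤ)
  simpa [h i] using this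

theorem bform_self_eq_zero {x : M} (hx : x ∈ Submodule.span ℤ (Set.range P.root))
    (h : bform P x x = 0) : x = 0 := by
  refine eq_zero_of_coroot'_eq_zero hx fun i => ?_
  let _ := Fintype.ofFinite ι
  change P.RootForm x x = 0 at h
  rw [P.rootForm_apply_apply] at h
  exact mul_self_eq_zero.mp
    ((Finset.sum_eq_zero_iff_of_nonneg fun j _ => mul_self_nonneg _).mp h i (Finset.mem_univ i))

theorem bform_self_pos {x : M} (hx : x ∈ Submodule.span ℤ (Set.range P.root)) (hne : x ≠ 0) :
    0 < bform P x x :=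
  lt_of_le_of_ne (bform_self_nonneg P x) fun h => hne (bform_self_eq_zero hx h.symm)

theorem exists_root_eq_add {i j : ι} (h : P.pairing i j < 0) (hne : P.root i ≠ -P.root j) :
    ∃ k, P.root k = P.root i + P.root j := by
  rw [← pairingIn_eq_pairing] at h
  exact P.root_add_root_mem_of_pairingIn_neg h hne

theorem exists_pairing_neg_of_sum_eq_neg {L : List ι} {k : ι}
    (h : (L.map P.root).sum = -P.root k) : ∃ r ∈ L, P.pairing k r < 0 := by
  obtain ⟨r, hr, hpos⟩ := exists_pairing_pos_of_sum_eq P (k := P.reflectionPerm k k) (L := L)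
    (by rw [h, root_neg])
  refine ⟨r, hr, ?_⟩
  rw [← bform_root_pos_iff, root_neg, map_neg, LinearMap.neg_apply] at hpos
  rw [← bform_root_neg_iff]
  omega

/-- A closed set without opposite pairs has no vanishing sum. -/
theorem sum_ne_zero {S : Set ι} (hP1 : ∀ i ∈ S, P.reflectionPerm i i ∉ S)
    (hcl : RootD.IsClosedSub P S) (L : List ι) (hL : ∀ r ∈ L, r ∈ S) (hne : L ≠ []) :
    (L.map P.root).sum ≠ 0 := by
  classical
  induction hn : L.length using Nat.strong_induction_on generalizing L with
  | _ n ih =>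
    intro h0
    obtain ⟨r, L', rfl⟩ := List.exists_cons_of_ne_nil hne
    rw [List.map_cons, List.sum_cons, add_eq_zero_iff_eq_neg'] at h0
    obtain ⟨s, hs, hrs⟩ := exists_pairing_neg_of_sum_eq_neg (L := L') (k := r) h0
    have hrS := hL r (by simp)
    have hsS := hL s (by simp [hs])
    obtain ⟨t, ht⟩ := exists_root_eq_add (i := r) (j := s) hrs fun he =>
      hP1 s hsS (root_eq_neg_iff.mp he ▸ hrS)
    refine ih (t :: L'.erase s).length ?_ (t :: L'.erase s) ?_ (by simp) rfl ?_
    · have h1 := List.length_pos_of_mem hs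
      have h2 := List.length_erase_of_mem hs
      rw [← hn]
      simp only [List.length_cons, h2]
      omega
    · intro x hx
      rcases List.mem_cons.1 hx with rfl | hx
      · exact hcl hrS hsS ht
      · exact hL x (by simp [List.mem_of_mem_erase hx])
    · have hp := ((List.perm_cons_erase hs).map P.root).sum_eq
      rw [List.map_cons, List.sum_cons] at hp
      rw [List.map_cons, List.sum_cons, ht, add_assoc, ← hp, h0, add_neg_cancel]

/-- Positive systems are the closed sets with (P 1) and (P 2). -/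
theorem isPosSys_of_closed {S : Set ι} (hP1 : ∀ i ∈ S, P.reflectionPerm i i ∉ S)
    (hP2 : ∀ i : ι, i ∈ S ∨ P.reflectionPerm i i ∈ S) (hcl : RootD.IsClosedSub P S) :
    RootD.IsPosSys P S := by
  refine ⟨fun i hi => hP1 i hi, hP2, fun k n hn hk => ?_⟩
  refine (hP2 k).resolve_right fun hneg => ?_
  obtain ⟨L, hL, hsum⟩ := exists_list_of_mem_natSpan P hk
  refine sum_ne_zero hP1 hcl (List.replicate n (P.reflectionPerm k k) ++ L) ?_ ?_ ?_
  · intro x hx
    rcases List.mem_append.1 hx with hx | hx
    · rw [List.eq_of_mem_replicate hx]; exact hneg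
    · exact hL x hx
  · simp only [ne_eq, List.append_eq_nil_iff, List.replicate_eq_nil_iff, not_and]
    omega
  · rw [List.map_append, List.sum_append, List.map_replicate, List.sum_replicate, hsum, root_neg,
      smul_neg, neg_add_cancel]

omit [Finite ι] in
theorem closed_of_isPosSys {S : Set ι} (hS : RootD.IsPosSys P S) : RootD.IsClosedSub P S :=
  fun i j k hi hj he => hS.sat 1 one_pos (by
    rw [one_smul, he]; exact add_mem (root_mem_natSpan hi) (root_mem_natSpan hj))

omit [Finite ι] in
theorem notMem_iff {S : Set ι} (hS : RootD.IsPosSys P S) {i : ι} :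
    i ∉ S ↔ P.reflectionPerm i i ∈ S :=
  ⟨fun h => (hS.cover i).resolve_left h, fun h hi => hS.disjoint hi h⟩

omit [Finite ι] in
theorem posSys_eq_of_subset {S T : Set ι} (hS : RootD.IsPosSys P S) (hT : RootD.IsPosSys P T)
    (h : S ⊆ T) : S = T :=
  h.antisymm fun i hi => by
    by_contra hiS
    exact hT.disjoint hi (h ((notMem_iff hS).mp hiS))

theorem natSpan_subset {S : Set ι} (hS : RootD.IsPosSys P S) {k : ι}
    (h : P.root k ∈ RootD.natSpan P S) : k ∈ S :=
  (isClosedSub_iff_natSpan P S).mp (closed_of_isPosSys hS) k h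

theorem natSpan_sum_ne_zero {S : Set ι} (hS : RootD.IsPosSys P S) {i : ι} (hi : i ∈ S) {x : M}
    (hx : x ∈ RootD.natSpan P S) : P.root i + x ≠ 0 := by
  obtain ⟨L, hL, rfl⟩ := exists_list_of_mem_natSpan P hx
  have := sum_ne_zero (fun j hj => hS.disjoint hj) (closed_of_isPosSys hS) (i :: L)
    (by simpa [hi] using hL) (by simp)
  simpa using this

section Aut

omit [Finite ι]

theorem root_smul (u : P.Aut) (i : ι) : P.root (u • i) = u • P.root i := root_smul_index u i

theorem smul_neg_idx (u : P.Aut) (i : ι) :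
    u • P.reflectionPerm i i = P.reflectionPerm (u • i) (u • i) := by
  apply P.root.injective
  rw [root_smul, root_neg, root_neg, root_smul]
  exact map_neg (Equiv.weightHom P u : M →ₗ[ℤ] M) _

theorem smul_add' (u : P.Aut) (x y : M) : u • (x + y) = u • x + u • y := smul_add u x y

theorem isClosedSub_image (u : P.Aut) {S : Set ι} (hS : RootD.IsClosedSub P S) :
    RootD.IsClosedSub P ((u • ·) '' S) := by
  rintro _ _ k ⟨i, hi, rfl⟩ ⟨j, hj, rfl⟩ he
  refine ⟨u⁻¹ • k, hS hi hj ?_, smul_inv_smul u k⟩
  rw [root_smul, he, root_smul, root_smul, smul_add, inv_smul_smul, inv_smul_smul]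

theorem mem_image_smul {u : P.Aut} {S : Set ι} {k : ι} : k ∈ (u • ·) '' S ↔ u⁻¹ • k ∈ S :=
  ⟨fun ⟨i, hi, he⟩ => by rw [← he, inv_smul_smul]; exact hi,
    fun h => ⟨_, h, smul_inv_smul u k⟩⟩

end Aut

theorem isPosSys_image (u : P.Aut) {S : Set ι} (hS : RootD.IsPosSys P S) :
    RootD.IsPosSys P ((u • ·) '' S) := by
  refine isPosSys_of_closed (fun i hi => ?_) (fun i => ?_)
    (isClosedSub_image u (closed_of_isPosSys hS))
  · rw [mem_image_smul] at hi ⊢
    rw [smul_neg_idx]
    exact hS.disjoint hi
  · rw [mem_image_smul, mem_image_smul, smul_neg_idx]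
    exact hS.cover _

omit [Finite ι] in
theorem reflection_smul_idx (i j : ι) : Equiv.reflection P i • j = P.reflectionPerm i j := by
  apply P.root.injective
  rw [root_smul, Equiv.reflection_smul, P.root_reflectionPerm]

omit [Finite ι] in
theorem root_reflectionPerm' (i j : ι) :
    P.root (P.reflectionPerm i j) = P.root j - P.pairing j i • P.root i := by
  rw [P.root_reflectionPerm, P.reflection_apply_root]

omit [Finite ι] in
theorem reflection_inv (i : ι) : (Equiv.reflection P i)⁻¹ = Equiv.reflection P i :=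
  RootPairing.Equiv.reflection_inv P i

omit [Finite ι] in
theorem reflection_mem (i : ι) : Equiv.reflection P i ∈ P.weylGroup :=
  Subgroup.subset_closure ⟨i, rfl⟩

end RootSysLib
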