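/-
Systems of simple roots.
-/
import Groth.Agent.RootSys.Core

set_option autoImplicit false

namespace RootSysLib

open RootPairing RootBasicLib

variable {ι M N : Type*} [AddCommGroup M] [AddCommGroup N] {P : RootPairing ι ℤ M N}

theorem finsupp_mem_natSpan {S : Set ι} {c : ι →₀ ℤ} (h : ∀ a, 0 ≤ c a)
    (hc : ∀ a, c a ≠ 0 → a ∈ S) : Finsupp.linearCombination ℤ P.root c ∈ RootD.natSpan P S := by
  rw [Finsupp.linearCombination_apply]
  refine sum_mem fun a ha => ?_
  dsimp only
  obtain ⟨n, hn⟩ := Int.eq_ofNat_of_zero_le (h a)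
  rw [hn, natCast_zsmul]
  exact nsmul_mem (root_mem_natSpan (hc a (Finsupp.mem_support_iff.mp ha))) n

/-- The coefficients of a root along a simple system. -/
theorem exists_coef {Δ : Set ι} (hΔ : RootD.IsSimpleSys P Δ) (k : ι) :
    ∃ c : ι →₀ ℤ, ↑c.support ⊆ Δ ∧ Finsupp.linearCombination ℤ P.root c = P.root k := by
  rcases hΔ.mem_or_neg_mem k with h | h
  · obtain ⟨c, hc, -, hc'⟩ := exists_finsupp_of_mem_natSpan h
    exact ⟨c, hc, hc'⟩
  · obtain ⟨c, hc, -, hc'⟩ := exists_finsupp_of_mem_natSpan h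
    exact ⟨-c, by rwa [Finsupp.support_neg], by rw [map_neg, hc', neg_neg]⟩

/-- The coefficient vector of a root along a simple system. -/
noncomputable def coef {Δ : Set ι} (hΔ : RootD.IsSimpleSys P Δ) (k : ι) : ι →₀ ℤ :=
  (exists_coef hΔ k).choose

variable {Δ : Set ι} (hΔ : RootD.IsSimpleSys P Δ)
include hΔ

theorem support_coef (k : ι) : ↑(coef hΔ k).support ⊆ Δ := (exists_coef hΔ k).choose_spec.1

theorem lc_coef (k : ι) : Finsupp.linearCombination ℤ P.root (coef hΔ k) = P.root k :=
  (exists_coef hΔ k).choose_spec.2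

theorem coef_eq {k : ι} {c : ι →₀ ℤ} (hc : ↑c.support ⊆ Δ)
    (h : Finsupp.linearCombination ℤ P.root c = P.root k) : coef hΔ k = c :=
  coeff_eq_of_linInd hΔ.linInd (support_coef hΔ k) hc (by rw [lc_coef, h])

theorem mem_of_coef_ne {k a : ι} (h : coef hΔ k a ≠ 0) : a ∈ Δ :=
  support_coef hΔ k (Finsupp.mem_support_iff.mpr h)

theorem coef_apply_eq_zero {k a : ι} (h : a ∉ Δ) : coef hΔ k a = 0 := by
  by_contra hne; exact h (mem_of_coef_ne hΔ hne)

theorem coef_self {a : ι} (ha : a ∈ Δ) : coef hΔ a = Finsupp.single a 1 :=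
  coef_eq hΔ (by rw [Finsupp.support_single_ne_zero a one_ne_zero]; simpa using ha) (by simp)

theorem coef_ne_zero (k : ι) : coef hΔ k ≠ 0 := fun h => P.ne_zero k <| by
  rw [← lc_coef hΔ k, h, map_zero]

theorem exists_coef_ne (k : ι) : ∃ a, coef hΔ k a ≠ 0 := by
  by_contra! h
  exact coef_ne_zero hΔ k (Finsupp.ext h)

theorem coef_lin {k i j : ι} (m n : ℤ) (h : P.root k = m • P.root i + n • P.root j) :
    coef hΔ k = m • coef hΔ i + n • coef hΔ j := by
  classical
  refine coef_eq hΔ ?_ (by rw [map_add, map_smul, map_smul, lc_coef, lc_coef, h])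
  intro a ha
  rcases Finset.mem_union.1 (Finsupp.support_add ha) with h | h
  · exact support_coef hΔ i (Finsupp.support_smul h)
  · exact support_coef hΔ j (Finsupp.support_smul h)

theorem coef_add {k i j : ι} (h : P.root k = P.root i + P.root j) :
    coef hΔ k = coef hΔ i + coef hΔ j := by
  simpa using coef_lin hΔ 1 1 (by simpa using h)

theorem coef_neg (k : ι) : coef hΔ (P.reflectionPerm k k) = -coef hΔ k := by
  refine coef_eq hΔ (by rw [Finsupp.support_neg]; exact support_coef hΔ k) ?_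
  rw [map_neg, lc_coef, root_neg]

theorem coef_reflect (i k : ι) :
    coef hΔ (P.reflectionPerm i k) = coef hΔ k - P.pairing k i • coef hΔ i := by
  have h := coef_lin hΔ (k := P.reflectionPerm i k) (i := k) (j := i) 1 (-P.pairing k i)
    (by rw [root_reflectionPerm', one_smul, neg_smul, ← sub_eq_add_neg])
  rw [h, one_smul, neg_smul, sub_eq_add_neg]

theorem coef_reflect_apply {i : ι} (hi : i ∈ Δ) (k : ι) {a : ι} (ha : a ≠ i) :
    coef hΔ (P.reflectionPerm i k) a = coef hΔ k a := by
  rw [coef_reflect, coef_self hΔ hi]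
  simp [ha]

theorem mem_posOf_iff {k : ι} : k ∈ RootD.posOf P Δ ↔ ∀ a, 0 ≤ coef hΔ k a := by
  constructor
  · intro h
    obtain ⟨c, hc, hpos, hc'⟩ := exists_finsupp_of_mem_natSpan h
    rw [coef_eq hΔ hc hc']
    exact hpos
  · intro h
    show P.root k ∈ RootD.natSpan P Δ
    rw [← lc_coef hΔ k]
    exact finsupp_mem_natSpan h fun a ha => mem_of_coef_ne hΔ ha

theorem neg_mem_posOf_iff {k : ι} :
    P.reflectionPerm k k ∈ RootD.posOf P Δ ↔ ∀ a, coef hΔ k a ≤ 0 := by
  rw [mem_posOf_iff hΔ, coef_neg]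
  simp

theorem pos_or_neg (k : ι) : (∀ a, 0 ≤ coef hΔ k a) ∨ ∀ a, coef hΔ k a ≤ 0 := by
  rcases hΔ.mem_or_neg_mem k with h | h
  · exact Or.inl ((mem_posOf_iff hΔ).mp h)
  · exact Or.inr ((neg_mem_posOf_iff hΔ).mp (by
      show P.root _ ∈ RootD.natSpan P Δ
      rwa [root_neg]))

theorem mem_posOf_of_coef_pos {k a : ι} (h : 0 < coef hΔ k a) : k ∈ RootD.posOf P Δ :=
  (mem_posOf_iff hΔ).mpr ((pos_or_neg hΔ k).resolve_right fun hn => absurd (hn a) h.not_ge)

theorem exists_coef_pos {k : ι} (hk : k ∈ RootD.posOf P Δ) : ∃ a, 0 < coef hΔ k a := by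
  obtain ⟨a, ha⟩ := exists_coef_ne hΔ k
  exact ⟨a, lt_of_le_of_ne ((mem_posOf_iff hΔ).mp hk a) (Ne.symm ha)⟩

theorem neg_notMem_posOf {k : ι} (hk : k ∈ RootD.posOf P Δ) :
    P.reflectionPerm k k ∉ RootD.posOf P Δ := fun h => by
  obtain ⟨a, ha⟩ := exists_coef_pos hΔ hk
  exact absurd ((neg_mem_posOf_iff hΔ).mp h a) ha.not_ge

omit hΔ in
theorem self_subset_posOf (Δ : Set ι) : Δ ⊆ RootD.posOf P Δ := fun _ ha => root_mem_natSpan ha

theorem isIndiv_of_mem {a : ι} (ha : a ∈ Δ) : RootD.IsIndiv P a := by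
  intro j hj
  have h := coef_lin hΔ (k := a) (i := j) (j := j) 2 0 (by rw [zero_smul, add_zero, hj])
  rw [coef_self hΔ ha] at h
  have h2 : (1 : ℤ) = 2 * coef hΔ j a := by simpa using DFunLike.congr_fun h a
  omega

theorem isPosSys_posOf [Finite ι] : RootD.IsPosSys P (RootD.posOf P Δ) := by
  refine isPosSys_of_closed (fun i hi => neg_notMem_posOf hΔ hi) (fun i => ?_) ?_
  · rcases hΔ.mem_or_neg_mem i with h | h
    · exact Or.inl h
    · refine Or.inr ?_
      show P.root _ ∈ RootD.natSpan P Δ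
      rwa [root_neg]
  · intro i j k hi hj he
    show P.root k ∈ RootD.natSpan P Δ
    rw [he]
    exact add_mem hi hj

theorem posOf_eq_of_subset [Finite ι] {S : Set ι} (hS : RootD.IsPosSys P S) (h : Δ ⊆ S) :
    RootD.posOf P Δ = S :=
  posSys_eq_of_subset (isPosSys_posOf hΔ) hS fun k hk => natSpan_subset hS (natSpan_mono h hk)

/-- The height along a simple system. -/
noncomputable def height (k : ι) : ℤ := (coef hΔ k).sum fun _ c => c

theorem height_eq_sum {k : ι} (s : Finset ι) (hs : (coef hΔ k).support ⊆ s) :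
    height hΔ k = ∑ a ∈ s, coef hΔ k a :=
  Finsupp.sum_of_support_subset _ hs _ fun _ _ => rfl

theorem height_pos {k : ι} (hk : k ∈ RootD.posOf P Δ) : 0 < height hΔ k := by
  obtain ⟨a, ha⟩ := exists_coef_pos hΔ hk
  exact Finset.sum_pos' (fun b _ => (mem_posOf_iff hΔ).mp hk b)
    ⟨a, Finsupp.mem_support_iff.mpr ha.ne', ha⟩

theorem height_add {k i j : ι} (h : P.root k = P.root i + P.root j) :
    height hΔ k = height hΔ i + height hΔ j := by
  rw [height, coef_add hΔ h, Finsupp.sum_add_index' (fun _ => rfl) fun _ _ _ => rfl]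
  rfl

theorem height_reflect {i : ι} (hi : i ∈ Δ) (k : ι) :
    height hΔ (P.reflectionPerm i k) = height hΔ k - P.pairing k i := by
  rw [height, coef_reflect, coef_self hΔ hi, Finsupp.smul_single, smul_eq_mul, mul_one,
    Finsupp.sum_sub_index (fun _ _ _ => rfl), Finsupp.sum_single_index rfl]
  rfl

theorem height_self {a : ι} (ha : a ∈ Δ) : height hΔ a = 1 := by
  rw [height, coef_self hΔ ha, Finsupp.sum_single_index rfl]

/-- Indecomposable elements of a set of roots. -/
def indec (P : RootPairing ι ℤ M N) (S : Set ι) : Set ι :=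
  {k | k ∈ S ∧ ¬∃ i j, i ∈ S ∧ j ∈ S ∧ P.root k = P.root i + P.root j}

theorem exists_pairing_pos [Finite ι] {k : ι} (hk : k ∈ RootD.posOf P Δ) :
    ∃ a ∈ Δ, 0 < coef hΔ k a ∧ 0 < P.pairing k a := by
  obtain ⟨c, hc, hpos, hc'⟩ := exists_finsupp_of_mem_natSpan hk
  have h := bform_root_pos P k
  conv at h => arg 2; arg 2; rw [← hc']
  rw [Finsupp.linearCombination_apply, Finsupp.sum, map_sum] at h
  obtain ⟨a, ha, hp⟩ := Finset.exists_lt_of_sum_lt (f := fun _ => (0 : ℤ)) (by simpa using h)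
  refine ⟨a, hc ha, ?_, ?_⟩
  · rw [coef_eq hΔ hc hc']
    exact lt_of_le_of_ne (hpos a) (Ne.symm (Finsupp.mem_support_iff.mp ha))
  · rw [← bform_root_pos_iff]
    exact pos_of_mul_pos_right hp (hpos a)

/-- A positive root which is not simple loses a simple root with positive pairing. -/
theorem exists_sub_simple [Finite ι] {k : ι} (hk : k ∈ RootD.posOf P Δ) (hkΔ : k ∉ Δ) :
    ∃ a ∈ Δ, ∃ j ∈ RootD.posOf P Δ, 0 < P.pairing k a ∧ P.root k = P.root a + P.root j := by
  obtain ⟨a, ha, hca, hp⟩ := exists_pairing_pos hΔ hk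
  obtain ⟨j, hj⟩ := exists_root_eq_sub P hp fun h => hkΔ (h ▸ ha)
  have he : P.root k = P.root a + P.root j := by rw [hj]; abel
  refine ⟨a, ha, j, ?_, hp, he⟩
  by_contra hjn
  have hjneg := (pos_or_neg hΔ j).resolve_left fun h => hjn ((mem_posOf_iff hΔ).mpr h)
  have hsum := coef_add hΔ he
  have hall : ∀ b, b ≠ a → coef hΔ k b = 0 := fun b hb => le_antisymm (by
    rw [hsum, Finsupp.add_apply, coef_self hΔ ha, Finsupp.single_eq_of_ne hb, zero_add]
    exact hjneg b) ((mem_posOf_iff hΔ).mp hk b)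
  have hka : coef hΔ k a = 1 := by
    have h1 : coef hΔ k a = 1 + coef hΔ j a := by
      rw [hsum, Finsupp.add_apply, coef_self hΔ ha, Finsupp.single_eq_same]
    have := hjneg a
    omega
  refine hkΔ ?_
  have : coef hΔ k = Finsupp.single a 1 := Finsupp.ext fun b => by
    by_cases hb : b = a
    · subst hb; simpa using hka
    · rw [hall b hb, Finsupp.single_eq_of_ne hb]
  have hk' := lc_coef hΔ k
  rw [this] at hk'
  simp only [Finsupp.linearCombination_single, one_smul] at hk'
  exact P.root.injective hk' ▸ ha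

/-- Simple systems induction on positive roots. -/
theorem posOf_induction [Finite ι] {p : ι → Prop} (h₁ : ∀ a ∈ Δ, p a)
    (h₂ : ∀ k ∈ RootD.posOf P Δ, ∀ a ∈ Δ, ∀ j ∈ RootD.posOf P Δ, 0 < P.pairing k a →
      P.root k = P.root a + P.root j → p j → p k)
    {k : ι} (hk : k ∈ RootD.posOf P Δ) : p k := by
  induction hn : (height hΔ k).toNat using Nat.strong_induction_on generalizing k with
  | _ n ih =>
    by_cases hkΔ : k ∈ Δ
    · exact h₁ k hkΔ
    obtain ⟨a, ha, j, hj, hp, he⟩ := exists_sub_simple hΔ hk hkΔ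
    refine h₂ k hk a ha j hj hp he (ih _ ?_ hj rfl)
    have := height_add hΔ he
    have := height_self hΔ ha
    have := height_pos hΔ hj
    omega

theorem indec_posOf [Finite ι] : indec P (RootD.posOf P Δ) = Δ := by
  ext k
  constructor
  · rintro ⟨hk, hnot⟩
    by_contra hkΔ
    obtain ⟨a, ha, j, hj, -, he⟩ := exists_sub_simple hΔ hk hkΔ
    exact hnot ⟨a, j, self_subset_posOf Δ ha, hj, he⟩
  · intro hk
    refine ⟨self_subset_posOf Δ hk, ?_⟩
    rintro ⟨i, j, hi, hj, he⟩
    have h1 := height_add hΔ he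
    have h2 := height_pos hΔ hi
    have h3 := height_pos hΔ hj
    rw [height_self hΔ hk] at h1
    omega

theorem eq_indec_of_subset [Finite ι] {S : Set ι} (hS : RootD.IsPosSys P S) (h : Δ ⊆ S) :
    Δ = indec P S := by
  rw [← posOf_eq_of_subset hΔ hS h, indec_posOf hΔ]

section Exists

omit hΔ

variable [Finite ι] {S : Set ι} (hS : RootD.IsPosSys P S)
include hS

theorem mem_natSpan_indec {k : ι} (hk : k ∈ S) : P.root k ∈ RootD.natSpan P (indec P S) := by
  induction hn : {t | t ∈ S ∧ P.root k - P.root t ∈ RootD.natSpan P S}.ncard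
      using Nat.strong_induction_on generalizing k with
  | _ n ih =>
    by_cases hd : k ∈ indec P S
    · exact root_mem_natSpan hd
    obtain ⟨i, j, hi, hj, he⟩ : ∃ i j, i ∈ S ∧ j ∈ S ∧ P.root k = P.root i + P.root j := by
      by_contra h; exact hd ⟨hk, h⟩
    have key : ∀ a b, a ∈ S → b ∈ S → P.root k = P.root a + P.root b →
        P.root a ∈ RootD.natSpan P (indec P S) := by
      intro a b ha hb hab
      refine ih _ ?_ ha rfl
      rw [← hn]
      refine Set.ncard_lt_ncard ⟨fun t ht => ⟨ht.1, ?_⟩, fun hsub => ?_⟩ (Set.toFinite _)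
      · rw [hab, show P.root a + P.root b - P.root t = (P.root a - P.root t) + P.root b by abel]
        exact add_mem ht.2 (root_mem_natSpan hb)
      · refine natSpan_sum_ne_zero hS hb (hsub ⟨hk, ?_⟩).2 ?_
        · rw [sub_self]; exact zero_mem _
        · rw [hab]; abel
    rw [he]
    exact add_mem (key i j hi hj he) (key j i hj hi (by rw [he, add_comm]))

theorem pairing_nonpos_indec {a b : ι} (ha : a ∈ indec P S) (hb : b ∈ indec P S) (hne : a ≠ b) :
    P.pairing a b ≤ 0 := by
  by_contra! h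
  obtain ⟨c, hc⟩ := exists_root_eq_sub P h hne
  rcases hS.cover c with hcS | hcS
  · exact ha.2 ⟨b, c, hb.1, hcS, by rw [hc]; abel⟩
  · exact hb.2 ⟨a, _, ha.1, hcS, by rw [root_neg, hc]; abel⟩

theorem linIndep_indec : LinearIndepOn ℤ P.root (indec P S) := by
  classical
  have key : ∀ c : ι →₀ ℤ, ↑c.support ⊆ indec P S →
      Finsupp.linearCombination ℤ P.root c = 0 → ∀ a, c a ≤ 0 := by
    intro c hc h0 a
    by_contra! ha
    let cp := c.filter fun x => 0 < c x
    let cn := c.filter fun x => ¬ 0 < c x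
    have hsplit : Finsupp.linearCombination ℤ P.root cp + Finsupp.linearCombination ℤ P.root cn = 0 := by
      rw [← map_add, Finsupp.filter_pos_add_filter_neg, h0]
    set v := Finsupp.linearCombination ℤ P.root cp with hv
    have hcp : ∀ x, cp x ≠ 0 → x ∈ indec P S ∧ 0 < c x := fun x hx => by
      by_cases hp : 0 < c x
      · exact ⟨hc (Finsupp.mem_support_iff.mpr hp.ne'), hp⟩
      · exact absurd (by simp [cp, Finsupp.filter_apply, hp]) hx
    have hvS : v ∈ Submodule.span ℤ (Set.range P.root) :=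
      Submodule.span_mono Set.Subset.rfl ((Finsupp.mem_span_range_iff_exists_finsupp).mpr ⟨cp, rfl⟩)
    have hvv : bform P v v ≤ 0 := by
      rw [show bform P v v = -bform P v (Finsupp.linearCombination ℤ P.root cn) by
        rw [eq_neg_of_add_eq_zero_right hsplit, map_neg, neg_neg]]
      rw [neg_nonpos, hv, Finsupp.linearCombination_apply, Finsupp.linearCombination_apply,
        Finsupp.sum, Finsupp.sum, map_sum (bform P _)]
      refine Finset.sum_nonneg fun y hy => ?_
      rw [map_sum, LinearMap.sum_apply]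
      refine Finset.sum_nonneg fun x hx => ?_
      obtain ⟨hxS, hxp⟩ := hcp x (Finsupp.mem_support_iff.mp hx)
      have hy' := Finsupp.mem_support_iff.mp hy
      have hyn : ¬ 0 < c y := fun h => hy' (Finsupp.filter_apply_neg _ _ (not_not.mpr h))
      have hyS : y ∈ indec P S := hc (Finsupp.mem_support_iff.mpr (by
        intro hc0; apply hy'; simp [cn, hc0]))
      have hxy : bform P (P.root x) (P.root y) ≤ 0 := by
        by_contra! hb
        exact absurd (pairing_nonpos_indec hS hxS hyS fun h => hyn (h ▸ hxp))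
          ((bform_root_pos_iff P x y).mp hb).not_ge
      simp only [map_smul, LinearMap.smul_apply, smul_eq_mul, cp, cn,
        Finsupp.filter_apply, if_pos hxp, if_pos hyn]
      push Not at hyn
      nlinarith [mul_nonneg hxp.le (neg_nonneg.mpr hxy),
        mul_nonneg (mul_nonneg hxp.le (neg_nonneg.mpr hxy)) (neg_nonneg.mpr hyn)]
    have hv0 : v = 0 := bform_self_eq_zero hvS (le_antisymm hvv (bform_self_nonneg P v))
    refine natSpan_sum_ne_zero hS (hc (Finsupp.mem_support_iff.mpr ha.ne')).1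
      (x := v - P.root a) ?_ (by rw [add_sub_cancel]; exact hv0)
    rw [show v - P.root a = Finsupp.linearCombination ℤ P.root (cp - Finsupp.single a 1) by simp [hv]]
    refine finsupp_mem_natSpan (fun x => ?_) fun x hx => ?_
    · simp only [Finsupp.sub_apply, cp, Finsupp.filter_apply, Finsupp.single_apply]
      split_ifs with h1 h2 h3 <;> first | omega | (subst h3; omega) | (subst h2; omega)
    · by_cases h : a = x
      · subst h; exact (hc (Finsupp.mem_support_iff.mpr ha.ne')).1
      · rw [Finsupp.sub_apply, Finsupp.single_eq_of_ne (Ne.symm h), sub_zero] at hx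
        exact (hcp x hx).1.1
  rw [linearIndepOn_iff]
  intro c hc h0
  rw [Finsupp.mem_supported] at hc
  refine Finsupp.ext fun a => le_antisymm (key c hc h0 a) ?_
  have := key (-c) (by rwa [Finsupp.support_neg]) (by rw [map_neg, h0, neg_zero]) a
  simpa using this

theorem isSimpleSys_indec : RootD.IsSimpleSys P (indec P S) := by
  refine ⟨linIndep_indec hS, fun i => ?_⟩
  rcases hS.cover i with h | h
  · exact Or.inl (mem_natSpan_indec hS h)
  · exact Or.inr (root_neg (P := P) i ▸ mem_natSpan_indec hS h)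

theorem posOf_indec : RootD.posOf P (indec P S) = S :=
  posOf_eq_of_subset (isSimpleSys_indec hS) hS fun _ h => h.1

end Exists

end RootSysLib
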