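/-
The Weyl group of a root datum and simple systems.
-/
import Groth.Agent.RootSys.Simple

set_option autoImplicit false

namespace RootSysLib

open RootPairing RootBasicLib

variable {ι M N : Type*} [AddCommGroup M] [AddCommGroup N] {P : RootPairing ι ℤ M N}

theorem map_smul_zsmul (u : P.Aut) (n : ℤ) (x : M) : u • (n • x) = n • u • x :=
  map_zsmul (Equiv.weightHom P u : M →ₗ[ℤ] M) n x

theorem aut_ext {u v : P.Aut} (h : ∀ m : M, u • m = v • m) : u = v :=
  RootPairing.Equiv.weightHom_injective P (LinearEquiv.ext h)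

/-- A positive multiple of a root is that root or its double. -/
theorem eq_one_or_two_of_eq_smul {a k : ι} {c : ℤ} (hc : 0 < c) (h : P.root k = c • P.root a) :
    c = 1 ∨ c = 2 := by
  have h1 := congrArg (P.coroot' k) h
  rw [map_zsmul, RootPairing.root_coroot'_eq_pairing, RootPairing.root_coroot'_eq_pairing,
    RootPairing.pairing_same, smul_eq_mul] at h1
  have h2 : c ∣ 2 := ⟨_, h1⟩
  have h3 := Int.le_of_dvd (by norm_num) h2
  omega

theorem eq_of_isIndiv {a k : ι} {c : ℤ} (hk : RootD.IsIndiv P k) (hc : 0 < c)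
    (h : P.root k = c • P.root a) : k = a := by
  rcases eq_one_or_two_of_eq_smul hc h with rfl | rfl
  · exact P.root.injective (by rwa [one_smul] at h)
  · exact absurd h.symm (hk a)

theorem isIndiv_smul (u : P.Aut) {k : ι} (hk : RootD.IsIndiv P k) : RootD.IsIndiv P (u • k) := by
  intro j hj
  apply hk (u⁻¹ • j)
  rw [root_smul, ← map_smul_zsmul, hj, root_smul, inv_smul_smul]

theorem isIndiv_of_smul (u : P.Aut) {k : ι} (hk : RootD.IsIndiv P (u • k)) : RootD.IsIndiv P k := by
  simpa using isIndiv_smul u⁻¹ hk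

/-- Proportional roots have the same reflection. -/
theorem reflection_eq_of_smul [Finite ι] {i j : ι} {a b : ℤ} (ha : a ≠ 0) (hb : b ≠ 0)
    (h : a • P.root i = b • P.root j) : Equiv.reflection P i = Equiv.reflection P j := by
  refine aut_ext fun x => ?_
  rw [Equiv.reflection_smul, Equiv.reflection_smul, P.reflection_apply, P.reflection_apply]
  congr 1
  have h1 := two_bform_apply_root P x i
  have h2 := two_bform_apply_root P x j
  have h3 : a * bform P x (P.root i) = b * bform P x (P.root j) := by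
    simpa only [map_zsmul, smul_eq_mul] using congrArg (bform P x) h
  have h4 : a * (a * bform P (P.root i) (P.root i)) = b * (b * bform P (P.root j) (P.root j)) := by
    simpa only [map_zsmul, LinearMap.smul_apply, smul_eq_mul] using
      congrArg (fun y => bform P y y) h
  have hj := bform_root_pos P j
  have h5 : b * P.coroot' i x = a * P.coroot' j x := by
    have : (bform P (P.root j) (P.root j) * b) * (b * P.coroot' i x - a * P.coroot' j x) = 0 := by
      linear_combination (-(P.coroot' i x)) * h4 + a * a * (-1 : ℤ) * h1 + a * b * h2 + 2 * a * h3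
    rcases mul_eq_zero.mp this with h | h
    · exact absurd h (mul_ne_zero hj.ne' hb)
    · linarith
  refine smul_right_cancel P (a := a * b) (mul_ne_zero ha hb) ?_
  rw [smul_smul, smul_smul, show a * b * P.coroot' i x = (P.coroot' i x * b) * a by ring,
    show a * b * P.coroot' j x = (a * P.coroot' j x) * b by ring, ← smul_smul (P.coroot' i x * b), ← smul_smul (a * P.coroot' j x), h, mul_comm _ b, h5]

section Simple

variable {Δ : Set ι} (hΔ : RootD.IsSimpleSys P Δ)
include hΔ

/-- A root supported at one simple root is a multiple of it. -/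
theorem root_eq_smul_of_forall {k a : ι} (h : ∀ b, b ≠ a → coef hΔ k b = 0) :
    P.root k = coef hΔ k a • P.root a := by
  have : coef hΔ k = Finsupp.single a (coef hΔ k a) := Finsupp.ext fun b => by
    by_cases hb : b = a
    · subst hb; simp
    · rw [h b hb, Finsupp.single_eq_of_ne hb]
  conv_lhs => rw [← lc_coef hΔ k, this, Finsupp.linearCombination_single]

theorem reflect_mem_posOf {k a : ι} (ha : a ∈ Δ) (hk : k ∈ RootD.posOf P Δ)
    {b : ι} (hb : b ≠ a) (hkb : coef hΔ k b ≠ 0) : P.reflectionPerm a k ∈ RootD.posOf P Δ :=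
  mem_posOf_of_coef_pos hΔ (a := b) (by
    rw [coef_reflect_apply hΔ ha k hb]
    exact lt_of_le_of_ne ((mem_posOf_iff hΔ).mp hk b) (Ne.symm hkb))

theorem reflect_mem_posOf_or {k a : ι} (ha : a ∈ Δ) (hk : k ∈ RootD.posOf P Δ) :
    P.reflectionPerm a k ∈ RootD.posOf P Δ ∨ ∃ c : ℤ, 0 < c ∧ P.root k = c • P.root a := by
  by_cases h : ∀ b, b ≠ a → coef hΔ k b = 0
  · have he := root_eq_smul_of_forall hΔ h
    refine Or.inr ⟨_, lt_of_le_of_ne ((mem_posOf_iff hΔ).mp hk a) fun h0 => ?_, he⟩
    rw [← h0, zero_smul] at he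
    exact P.ne_zero k he
  · push Not at h
    obtain ⟨b, hb, hkb⟩ := h
    exact Or.inl (reflect_mem_posOf hΔ ha hk hb hkb)

theorem isSimpleSys_image (u : P.Aut) : RootD.IsSimpleSys P ((u • ·) '' Δ) := by
  let L : M ≃ₗ[ℤ] M := Equiv.weightHom P u
  have hL : ∀ i, L (P.root i) = P.root (u • i) := fun i => (root_smul u i).symm
  have hspan : ∀ {x : M}, x ∈ RootD.natSpan P Δ → L x ∈ RootD.natSpan P ((u • ·) '' Δ) := by
    intro x hx
    induction hx using AddSubmonoid.closure_induction with
    | mem x hx =>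
      obtain ⟨i, hi, rfl⟩ := hx
      rw [hL]; exact root_mem_natSpan ⟨i, hi, rfl⟩
    | zero => rw [map_zero]; exact zero_mem _
    | add x y _ _ hx hy => rw [map_add]; exact add_mem hx hy
  refine ⟨?_, fun i => ?_⟩
  · have hcomp : (P.root ∘ (u • ·) : ι → M) = L ∘ P.root := funext fun i => (hL i).symm
    refine LinearIndepOn.image_of_comp (f := fun i => u • i) (g := P.root) ?_
    rw [hcomp]
    exact hΔ.linInd.map_injOn L.toLinearMap L.injective.injOn
  · rcases hΔ.mem_or_neg_mem (u⁻¹ • i) with h | h
    · have := hspan h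
      rw [hL, smul_inv_smul] at this
      exact Or.inl this
    · have := hspan h
      rw [map_neg, hL, smul_inv_smul] at this
      exact Or.inr this

end Simple

variable [Finite ι]

/-- A positive system is moved into a closed set satisfying (P 2) by the Weyl group. -/
theorem exists_mapsTo {S : Set ι} (hS : RootD.IsPosSys P S) {P' : Set ι}
    (hP2 : ∀ i : ι, i ∈ P' ∨ P.reflectionPerm i i ∈ P') (hcl : RootD.IsClosedSub P P') :
    ∃ g : P.Aut, g ∈ P.weylGroup ∧ (fun i : ι => g • i) '' S ⊆ P' := by
  induction hn : (S \ P').ncard using Nat.strong_induction_on generalizing S with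
  | _ n ih =>
    by_cases hsub : S ⊆ P'
    · exact ⟨1, one_mem _, by simpa using hsub⟩
    obtain ⟨a, ha, haP⟩ : ∃ a ∈ indec P S, a ∉ P' := by
      by_contra! h
      exact hsub fun k hk => (isClosedSub_iff_natSpan P P').mp hcl k
        (natSpan_mono h (mem_natSpan_indec hS hk))
    have hΔ := isSimpleSys_indec hS
    have hpos := posOf_indec hS
    set S' := (Equiv.reflection P a • ·) '' S
    have key : S' \ P' ⊆ (S \ P') \ {a} := by
      rintro x ⟨hx, hxP⟩
      rw [mem_image_smul, reflection_inv, reflection_smul_idx, ← hpos] at hx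
      rcases reflect_mem_posOf_or hΔ ha hx with h | ⟨c, hc, he⟩
      · rw [P.reflectionPerm_self, hpos] at h
        refine ⟨⟨h, hxP⟩, fun hxa => ?_⟩
        rw [Set.mem_singleton_iff] at hxa
        subst hxa
        exact neg_notMem_posOf hΔ (self_subset_posOf _ ha) hx
      · refine absurd ((isClosedSub_iff_natSpan P P').mp hcl x ?_) hxP
        have hxe : P.root x = c • P.root (P.reflectionPerm a a) := by
          have h2 := congrArg (P.reflection a) he
          rwa [← P.root_reflectionPerm, P.reflectionPerm_self, map_zsmul,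
            ← P.root_reflectionPerm] at h2
        rw [hxe, ← Int.toNat_of_nonneg hc.le, natCast_zsmul]
        exact nsmul_mem (root_mem_natSpan ((hP2 a).resolve_left haP)) _
    obtain ⟨g, hg, hgS⟩ := ih (S' \ P').ncard (by
      rw [← hn]
      refine lt_of_le_of_lt (Set.ncard_le_ncard key (Set.toFinite _))
        (Set.ncard_sdiff_singleton_lt_of_mem ⟨ha.1, haP⟩ (Set.toFinite _))) (isPosSys_image _ hS) rfl
    refine ⟨g * Equiv.reflection P a, mul_mem hg (reflection_mem a), ?_⟩
    rintro _ ⟨i, hi, rfl⟩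
    refine hgS ⟨_, ⟨i, hi, rfl⟩, ?_⟩
    show g • (Equiv.reflection P a • i) = _
    rw [← mul_smul]

theorem exists_image_eq {S S' : Set ι} (hS : RootD.IsPosSys P S) (hS' : RootD.IsPosSys P S') :
    ∃ g : P.Aut, g ∈ P.weylGroup ∧ (fun i : ι => g • i) '' S = S' := by
  obtain ⟨g, hg, h⟩ := exists_mapsTo hS hS'.cover (closed_of_isPosSys hS')
  exact ⟨g, hg, posSys_eq_of_subset (isPosSys_image g hS) hS' h⟩

section Simple

variable {Δ : Set ι} (hΔ : RootD.IsSimpleSys P Δ)
include hΔ

theorem image_eq_of_posOf {Δ' : Set ι} (hΔ' : RootD.IsSimpleSys P Δ') (g : P.Aut)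
    (h : (g • ·) '' RootD.posOf P Δ = RootD.posOf P Δ') : (g • ·) '' Δ = Δ' := by
  rw [eq_indec_of_subset (isSimpleSys_image hΔ g) (isPosSys_posOf hΔ') ?_,
    indec_posOf hΔ']
  rw [← h]
  exact Set.image_mono (self_subset_posOf Δ)

/-- Exchange: a word sending a simple root to a negative one can be shortened. -/
theorem exchange (l : List ι) (hl : ∀ b ∈ l, b ∈ Δ) {a : ι} (ha : a ∈ Δ)
    (h : (l.map fun b => Equiv.reflection P b).prod • a ∉ RootD.posOf P Δ) :
    ∃ l' : List ι, (∀ b ∈ l', b ∈ Δ) ∧ l'.length + 1 = l.length ∧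
      (l'.map fun b => Equiv.reflection P b).prod =
        (l.map fun b => Equiv.reflection P b).prod * Equiv.reflection P a := by
  induction l with
  | nil => simp [self_subset_posOf Δ ha] at h
  | cons b t ih =>
    simp only [List.map_cons, List.prod_cons, mul_smul] at h ⊢
    set u := (t.map fun b => Equiv.reflection P b).prod
    have hbΔ := hl b (by simp)
    have htΔ : ∀ x ∈ t, x ∈ Δ := fun x hx => hl x (by simp [hx])
    by_cases hu : u • a ∈ RootD.posOf P Δ
    · rw [reflection_smul_idx] at h
      obtain ⟨c, hc, he⟩ := (reflect_mem_posOf_or hΔ hbΔ hu).resolve_left h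
      have hub : u • a = b := eq_of_isIndiv (isIndiv_smul u (isIndiv_of_mem hΔ ha)) hc he
      refine ⟨t, htΔ, by simp, ?_⟩
      have hconj := aut_mul_reflection_mul_inv u a
      rw [hub, mul_inv_eq_iff_eq_mul] at hconj
      rw [mul_assoc, hconj, ← mul_assoc]
      conv_rhs => rw [show Equiv.reflection P b * Equiv.reflection P b = 1 by
        rw [mul_eq_one_iff_eq_inv, reflection_inv]]
      rw [one_mul]
    · obtain ⟨t', ht', hlen, hprod⟩ := ih htΔ hu
      refine ⟨b :: t', fun x hx => ?_, by simp [hlen], by simp [hprod, mul_assoc]⟩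
      rcases List.mem_cons.1 hx with rfl | hx
      · exact hbΔ
      · exact ht' x hx

/-- The last letter of a shortest word is sent to a negative root. -/
theorem neg_last_of_minimal (l : List ι) (hl : ∀ a ∈ l, a ∈ Δ) (hne : l ≠ [])
    (hmin : ∀ l' : List ι, (∀ a ∈ l', a ∈ Δ) →
      (l'.map fun a => Equiv.reflection P a).prod = (l.map fun a => Equiv.reflection P a).prod →
      l.length ≤ l'.length) :
    (l.map fun a => Equiv.reflection P a).prod • l.getLast hne ∉ RootD.posOf P Δ := by
  intro hpos
  set a := l.getLast hne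
  have hdec : l.dropLast ++ [a] = l := List.dropLast_append_getLast hne
  have haΔ : a ∈ Δ := hl a (List.getLast_mem hne)
  have hprod : (l.map fun a => Equiv.reflection P a).prod =
      (l.dropLast.map fun a => Equiv.reflection P a).prod * Equiv.reflection P a := by
    conv_lhs => rw [← hdec]
    simp
  rw [hprod, mul_smul, reflection_smul_idx, smul_neg_idx] at hpos
  obtain ⟨l', hl', hlen, hp⟩ := exchange hΔ l.dropLast (fun x hx => hl x (List.dropLast_subset l hx))
    haΔ fun h => neg_notMem_posOf hΔ h hpos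
  have := hmin l' hl' (hp.trans hprod.symm)
  have := List.length_dropLast (xs := l)
  omega

theorem exists_conj {k : ι} (hk : RootD.IsIndiv P k) :
    ∃ g ∈ Subgroup.closure ((fun i : ι => Equiv.reflection P i) '' Δ), ∃ a ∈ Δ, g • a = k := by
  have key : ∀ k, k ∈ RootD.posOf P Δ → RootD.IsIndiv P k →
      ∃ g ∈ Subgroup.closure ((fun i : ι => Equiv.reflection P i) '' Δ), ∃ a ∈ Δ, g • a = k := by
    intro k hk hki
    induction hn : (height hΔ k).toNat using Nat.strong_induction_on generalizing k with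
    | _ n ih =>
      by_cases hkΔ : k ∈ Δ
      · exact ⟨1, one_mem _, k, hkΔ, one_smul _ _⟩
      obtain ⟨a, ha, -, hp⟩ := exists_pairing_pos hΔ hk
      rcases reflect_mem_posOf_or hΔ ha hk with hpos | ⟨c, hc, he⟩
      · have hk' : RootD.IsIndiv P (P.reflectionPerm a k) := by
          rw [← reflection_smul_idx]; exact isIndiv_smul _ hki
        have := height_reflect hΔ ha k
        have := height_pos hΔ hpos
        obtain ⟨g, hg, b, hb, hgb⟩ := ih _ (by omega) _ hpos hk' rfl
        refine ⟨Equiv.reflection P a * g, mul_mem (Subgroup.subset_closure ⟨a, ha, rfl⟩) hg, b, hb, ?_⟩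
        rw [mul_smul, hgb, reflection_smul_idx, P.reflectionPerm_self]
      · exact absurd (eq_of_isIndiv hki hc he ▸ ha) hkΔ
  rcases (isPosSys_posOf hΔ).cover k with h | h
  · exact key k h hk
  · have hk' : RootD.IsIndiv P (P.reflectionPerm k k) := by
      rw [← reflection_smul_idx]; exact isIndiv_smul _ hk
    obtain ⟨g, hg, a, ha, he⟩ := key _ h hk'
    refine ⟨g * Equiv.reflection P a, mul_mem hg (Subgroup.subset_closure ⟨a, ha, rfl⟩), a, ha, ?_⟩
    rw [mul_smul, reflection_smul_idx, smul_neg_idx, he, neg_neg_idx]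

omit hΔ in
theorem exists_indiv_eq (i : ι) : ∃ j, RootD.IsIndiv P j ∧
    Equiv.reflection P j = Equiv.reflection P i := by
  by_cases hi : RootD.IsIndiv P i
  · exact ⟨i, hi, rfl⟩
  · simp only [RootD.IsIndiv, not_forall, not_not] at hi
    obtain ⟨j, hj⟩ := hi
    refine ⟨j, fun k hk => ?_, reflection_eq_of_smul (a := 2) (b := 1) two_ne_zero one_ne_zero
      (by rw [one_smul]; exact hj)⟩
    have h4 : P.root i = (4 : ℤ) • P.root k := by rw [← hj, ← hk, smul_smul]; norm_num
    rcases eq_one_or_two_of_eq_smul (by norm_num) h4 with h | h <;> omega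

/-- Simple reflections generate the Weyl group. -/
theorem closure_simple : Subgroup.closure ((fun i : ι => Equiv.reflection P i) '' Δ) = P.weylGroup := by
  apply le_antisymm
  · rw [Subgroup.closure_le]
    rintro _ ⟨i, -, rfl⟩
    exact reflection_mem i
  · show Subgroup.closure _ ≤ _
    rw [Subgroup.closure_le]
    rintro _ ⟨i, rfl⟩
    obtain ⟨j, hj, he⟩ := exists_indiv_eq (P := P) i
    obtain ⟨g, hg, a, ha, hga⟩ := exists_conj hΔ hj
    show Equiv.reflection P i ∈ Subgroup.closure _
    rw [← he, ← hga, ← aut_mul_reflection_mul_inv]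
    exact mul_mem (mul_mem hg (Subgroup.subset_closure ⟨a, ha, rfl⟩)) (inv_mem hg)

omit [Finite ι] hΔ in
theorem exists_word {s : Set ι} {g : P.Aut}
    (hg : g ∈ Subgroup.closure ((fun i : ι => Equiv.reflection P i) '' s)) :
    ∃ l : List ι, (∀ a ∈ l, a ∈ s) ∧ (l.map fun a => Equiv.reflection P a).prod = g := by
  induction hg using Subgroup.closure_induction with
  | mem x hx => obtain ⟨a, ha, rfl⟩ := hx; exact ⟨[a], by simpa using ha, by simp⟩
  | one => exact ⟨[], by simp, by simp⟩
  | mul x y _ _ hx hy =>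
    obtain ⟨l, hl, rfl⟩ := hx
    obtain ⟨m, hm, rfl⟩ := hy
    exact ⟨l ++ m, fun a ha => (List.mem_append.1 ha).elim (hl a) (hm a), by simp⟩
  | inv x _ hx =>
    obtain ⟨l, hl, rfl⟩ := hx
    refine ⟨l.reverse, by simpa using hl, ?_⟩
    rw [List.prod_inv_reverse, List.map_reverse]
    congr 2
    rw [List.map_map]
    exact List.map_congr_left fun a _ => (reflection_inv a).symm

/-- A Weyl group element preserving positivity is trivial. -/
theorem eq_one_of_preserves {g : P.Aut} (hg : g ∈ P.weylGroup)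
    (h : ∀ a ∈ Δ, g • a ∈ RootD.posOf P Δ) : g = 1 := by
  classical
  rw [← closure_simple hΔ] at hg
  let p : ℕ → Prop := fun n => ∃ l : List ι, (∀ a ∈ l, a ∈ Δ) ∧ l.length = n ∧
    (l.map fun a => Equiv.reflection P a).prod = g
  have hp : ∃ n, p n := by
    obtain ⟨l, hl, hlg⟩ := exists_word hg
    exact ⟨_, l, hl, rfl, hlg⟩
  obtain ⟨l, hl, hlen, hlg⟩ := Nat.find_spec hp
  by_cases hne : l = []
  · subst hne; simpa using hlg.symm
  exfalso
  refine neg_last_of_minimal hΔ l hl hne (fun l' hl' he => ?_)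
    (by rw [hlg]; exact h _ (hl _ (List.getLast_mem hne)))
  rw [hlen]
  exact Nat.find_min' hp ⟨l', hl', rfl, he.trans hlg⟩

theorem eq_one_of_image_eq {g : P.Aut} (hg : g ∈ P.weylGroup) (h : (g • ·) '' Δ = Δ) : g = 1 :=
  eq_one_of_preserves hΔ hg fun a ha => self_subset_posOf Δ (h.le ⟨a, ha, rfl⟩)

end Simple

end RootSysLib
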