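/-
Spans along simple systems and existence of systems of positive roots.
-/
import Groth.Agent.RootSys.Weyl

set_option autoImplicit false

namespace RootSysLib

open RootPairing RootBasicLib

variable {ι M N : Type*} [AddCommGroup M] [AddCommGroup N] {P : RootPairing ι ℤ M N}

/-- The root with index `i` as an element of the root lattice. -/
def rootL (P : RootPairing ι ℤ M N) (i : ι) : Submodule.span ℤ (Set.range P.root) :=
  ⟨P.root i, Submodule.subset_span (Set.mem_range_self i)⟩

theorem rootL_eq_add {i j k : ι} (h : P.root k = P.root i + P.root j) :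
    rootL P k = rootL P i + rootL P j := Subtype.ext h

theorem rootL_neg (i : ι) : rootL P (P.reflectionPerm i i) = -rootL P i :=
  Subtype.ext (root_neg i)

section Simple

variable {Δ : Set ι} (hΔ : RootD.IsSimpleSys P Δ)
include hΔ

theorem span_eq : Submodule.span ℤ (P.root '' Δ) = Submodule.span ℤ (Set.range P.root) := by
  refine le_antisymm (span_le_range Δ) (Submodule.span_le.2 ?_)
  rintro _ ⟨i, rfl⟩
  exact Finsupp.mem_span_image_iff_linearCombination ℤ |>.2
    ⟨coef hΔ i, (Finsupp.mem_supported ℤ _).2 (support_coef hΔ i), lc_coef hΔ i⟩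

theorem exists_repr {x : M} (hx : x ∈ Submodule.span ℤ (Set.range P.root)) :
    ∃ c : ι →₀ ℤ, ↑c.support ⊆ Δ ∧ Finsupp.linearCombination ℤ P.root c = x := by
  rw [← span_eq hΔ, Finsupp.mem_span_image_iff_linearCombination] at hx
  obtain ⟨c, hc, h⟩ := hx
  exact ⟨c, (Finsupp.mem_supported ℤ c).1 hc, h⟩

variable {Δ' : Set ι} (hsub : Δ' ⊆ Δ)
include hsub

theorem coef_eq_zero_of_nsmul {k : ι} {n : ℕ} (hn : 0 < n)
    (h : n • P.root k ∈ Submodule.span ℤ (P.root '' Δ')) {a : ι} (ha : a ∉ Δ') :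
    coef hΔ k a = 0 := by
  obtain ⟨c, hc, he⟩ := (Finsupp.mem_span_image_iff_linearCombination ℤ).1 h
  rw [Finsupp.mem_supported] at hc
  have h1 : n • coef hΔ k = c := coeff_eq_of_linInd hΔ.linInd
    (fun x hx => support_coef hΔ k (Finsupp.support_smul hx)) (fun x hx => hsub (hc hx))
    (by rw [map_nsmul, lc_coef, he])
  have h2 : n • coef hΔ k a = 0 := by
    rw [← Finsupp.smul_apply, h1]
    by_contra hne
    exact ha (hc (Finsupp.mem_support_iff.2 hne))
  rcases smul_eq_zero.1 h2 with h3 | h3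
  · omega
  · exact h3

theorem mem_inSpan_iff {k : ι} : k ∈ RootD.inSpan P Δ' ↔ ∀ a ∉ Δ', coef hΔ k a = 0 := by
  refine ⟨fun h a ha => coef_eq_zero_of_nsmul hΔ hsub one_pos (by rwa [one_smul]) ha, fun h => ?_⟩
  show P.root k ∈ Submodule.span ℤ (P.root '' Δ')
  refine (Finsupp.mem_span_image_iff_linearCombination ℤ).2
    ⟨coef hΔ k, (Finsupp.mem_supported ℤ _).2 fun a ha => ?_, lc_coef hΔ k⟩
  by_contra hne
  exact Finsupp.mem_support_iff.1 ha (h a hne)

theorem inSpan_saturated {k : ι} {n : ℕ} (hn : 0 < n)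
    (h : n • P.root k ∈ Submodule.span ℤ (P.root '' RootD.inSpan P Δ')) :
    k ∈ RootD.inSpan P Δ' := by
  refine (mem_inSpan_iff hΔ hsub).2 fun a => coef_eq_zero_of_nsmul hΔ hsub hn ?_
  refine Submodule.span_le.2 ?_ h
  rintro _ ⟨i, hi, rfl⟩
  exact hi

end Simple

section Functional

variable [Finite ι]

theorem exists_forall_ne {κ : Type*} (s : Finset κ) {A : Type*} [AddCommGroup A] (x : κ → A)
    (V : Submodule ℤ (A →+ ℤ)) (h : ∀ k ∈ s, ∃ g ∈ V, g (x k) ≠ 0) :
    ∃ g ∈ V, ∀ k ∈ s, g (x k) ≠ 0 := by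
  classical
  induction s using Finset.induction with
  | empty => exact ⟨0, zero_mem _, by simp⟩
  | @insert a s has ih =>
    obtain ⟨f, hfV, hf⟩ := ih fun k hk => h k (Finset.mem_insert_of_mem hk)
    obtain ⟨g, hgV, hg⟩ := h a (Finset.mem_insert_self a s)
    by_cases hfa : f (x a) = 0
    · obtain ⟨c, hc⟩ : ∃ c : ℤ, c ∉ (s.image fun k => -g (x k) / f (x k)) :=
        Infinite.exists_notMem_finset _
      refine ⟨c • f + g, add_mem (V.smul_mem c hfV) hgV, fun k hk he => ?_⟩
      simp only [AddMonoidHom.add_apply, AddMonoidHom.coe_smul, Pi.smul_apply, smul_eq_mul] at he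
      rcases Finset.mem_insert.1 hk with rfl | hk
      · rw [hfa, mul_zero, zero_add] at he; exact hg he
      · refine hc (Finset.mem_image.2 ⟨k, hk, ?_⟩)
        rw [show -g (x k) = c * f (x k) by omega, Int.mul_ediv_cancel _ (hf k hk)]
    · exact ⟨f, hfV, fun k hk => (Finset.mem_insert.1 hk).elim (fun e => e ▸ hfa) (hf k)⟩

/-- A saturated set of roots is the zero set of a functional on the root lattice. -/
theorem exists_functional {R' : Set ι}
    (hsat : ∀ k : ι, (∃ n : ℕ, 0 < n ∧ n • P.root k ∈ Submodule.span ℤ (P.root '' R')) → k ∈ R') :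
    ∃ φ : Submodule.span ℤ (Set.range P.root) →+ ℤ, ∀ k, φ (rootL P k) = 0 ↔ k ∈ R' := by
  classical
  let _ := Fintype.ofFinite ι
  let L := Submodule.span ℤ (Set.range P.root)
  have : Module.Finite ℤ L := Module.Finite.span_of_finite ℤ (Set.finite_range _)
  let W : Submodule ℤ L := Submodule.span ℤ (rootL P '' R')
  let V : Submodule ℤ (L →+ ℤ) :=
    { carrier := {g | ∀ w ∈ W, g w = 0}
      add_mem' := fun {f g} hf hg w hw => by simp [hf w hw, hg w hw]
      zero_mem' := fun w _ => rfl
      smul_mem' := fun c f hf w hw => by simp [hf w hw] }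
  obtain ⟨g, hgV, hg⟩ := exists_forall_ne (Finset.univ.filter fun k => k ∉ R') (rootL P) V (by
    intro k hk
    rw [Finset.mem_filter] at hk
    let q := (Submodule.torsion ℤ (L ⧸ W)).mkQ.comp W.mkQ
    have hq : q (rootL P k) ≠ 0 := by
      intro h0
      rw [LinearMap.comp_apply, Submodule.mkQ_apply, Submodule.Quotient.mk_eq_zero,
        Submodule.mem_torsion_iff] at h0
      obtain ⟨⟨a, ha⟩, he⟩ := h0
      rw [Submonoid.mk_smul, Submodule.mkQ_apply, ← Submodule.Quotient.mk_smul,
        Submodule.Quotient.mk_eq_zero] at he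
      have ha0 : a ≠ 0 := nonZeroDivisors.ne_zero ha
      have hmem : a • P.root k ∈ Submodule.span ℤ (P.root '' R') := by
        have := Submodule.mem_map_of_mem (f := L.subtype) he
        rw [Submodule.map_span, Set.image_image] at this
        exact this
      refine hk.2 (hsat k ⟨a.natAbs, Int.natAbs_pos.2 ha0, ?_⟩)
      rw [← natCast_zsmul]
      rcases Int.natAbs_eq a with h | h
      · rwa [← h]
      · rw [show (a.natAbs : ℤ) = -a by omega, neg_smul]; exact neg_mem hmem
    let b := Module.Free.chooseBasis ℤ ((L ⧸ W) ⧸ Submodule.torsion ℤ (L ⧸ W))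
    obtain ⟨i, hi⟩ : ∃ i, b.repr (q (rootL P k)) i ≠ 0 := by
      by_contra! h
      exact hq (b.repr.map_eq_zero_iff.1 (Finsupp.ext h))
    refine ⟨((b.coord i).comp q).toAddMonoidHom, fun w hw => ?_, hi⟩
    have : W.mkQ w = 0 := (Submodule.Quotient.mk_eq_zero W).2 hw
    simp [q, LinearMap.comp_apply, this])
  refine ⟨g, fun k => ⟨fun h => ?_, fun h => hgV _ (Submodule.subset_span ⟨k, h, rfl⟩)⟩⟩
  by_contra hk
  exact hg k (by simp [hk]) h

variable (φ : Submodule.span ℤ (Set.range P.root) →+ ℤ)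

/-- Gluing a positive system on the kernel of a functional to the positive side. -/
theorem isPosSys_glue (T : Set ι) (hT0 : ∀ k ∈ T, φ (rootL P k) = 0)
    (hP1 : ∀ k ∈ T, P.reflectionPerm k k ∉ T)
    (hP2 : ∀ k, φ (rootL P k) = 0 → k ∈ T ∨ P.reflectionPerm k k ∈ T)
    (hcl : RootD.IsClosedSub P T) :
    RootD.IsPosSys P ({k | 0 < φ (rootL P k)} ∪ T) := by
  refine isPosSys_of_closed ?_ ?_ ?_
  · intro k hk hk'
    simp only [Set.mem_union, Set.mem_ofPred_eq, rootL_neg, map_neg] at hk hk'
    rcases hk with h | h <;> rcases hk' with h' | h'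
    · omega
    · have := hT0 _ h'; rw [rootL_neg, map_neg] at this; omega
    · have := hT0 _ h; omega
    · exact hP1 k h h'
  · intro k
    simp only [Set.mem_union, Set.mem_ofPred_eq, rootL_neg, map_neg]
    rcases lt_trichotomy (φ (rootL P k)) 0 with h | h | h
    · exact Or.inr (Or.inl (by omega))
    · exact (hP2 k h).imp Or.inr Or.inr
    · exact Or.inl (Or.inl h)
  · intro i j k hi hj he
    simp only [Set.mem_union, Set.mem_ofPred_eq] at hi hj ⊢
    rw [rootL_eq_add he, map_add]
    rcases hi with h | h <;> rcases hj with h' | h'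
    · exact Or.inl (by omega)
    · have := hT0 _ h'; exact Or.inl (by omega)
    · have := hT0 _ h; exact Or.inl (by omega)
    · exact Or.inr (hcl h h' he)

end Functional

variable (P) in
/-- Systems of positive roots exist. -/
theorem exists_isPosSys [Finite ι] : ∃ S, RootD.IsPosSys P S := by
  obtain ⟨φ, hφ⟩ := exists_functional (P := P) (R' := ∅) fun k ⟨n, hn, h⟩ => by
    rw [Set.image_empty, Submodule.span_empty, Submodule.mem_bot] at h
    exact absurd (nsmul_right_cancel P hn (y := 0) (by rw [h, smul_zero])) (P.ne_zero k)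
  exact ⟨_, isPosSys_glue φ ∅ (by simp) (by simp) (fun k h => ((hφ k).1 h).elim)
    fun i j k hi => hi.elim⟩

variable (P) in
theorem exists_isSimpleSys [Finite ι] : ∃ Δ, RootD.IsSimpleSys P Δ :=
  ⟨_, isSimpleSys_indec (exists_isPosSys P).choose_spec⟩

theorem eq_zero_of_nonneg_combination {S : Set ι}
    (φ : Submodule.span ℤ (Set.range P.root) →+ ℤ) (hpos : ∀ a ∈ S, 0 ≤ φ (rootL P a))
    {c : ι →₀ ℤ} (hc : ↑c.support ⊆ S) (hc0 : ∀ a, 0 ≤ c a) {k : ι}
    (he : Finsupp.linearCombination ℤ P.root c = P.root k) (hk : φ (rootL P k) = 0)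
    {a : ι} (ha : c a ≠ 0) : φ (rootL P a) = 0 := by
  have h : rootL P k = ∑ x ∈ c.support, c x • rootL P x := by
    apply Subtype.ext
    rw [AddSubmonoidClass.coe_finset_sum]
    simp only [Submodule.coe_smul]
    exact (he.symm.trans (Finsupp.linearCombination_apply ℤ c))
  rw [h, map_sum] at hk
  simp only [map_zsmul, smul_eq_mul] at hk
  have := (Finset.sum_eq_zero_iff_of_nonneg fun x hx => mul_nonneg (hc0 x) (hpos x (hc hx))).1 hk a
    (Finsupp.mem_support_iff.2 ha)
  exact (mul_eq_zero.1 this).resolve_left ha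

/-- A saturated set of roots is spanned by part of a simple system. -/
theorem exists_simple_inSpan [Finite ι] (R' : Set ι)
    (hsat : ∀ k : ι, (∃ n : ℕ, 0 < n ∧ n • P.root k ∈ Submodule.span ℤ (P.root '' R')) → k ∈ R') :
    ∃ Δ Δ' : Set ι, RootD.IsSimpleSys P Δ ∧ Δ' ⊆ Δ ∧ R' = RootD.inSpan P Δ' := by
  obtain ⟨φ, hφ⟩ := exists_functional hsat
  obtain ⟨S0, hS0⟩ := exists_isPosSys P
  have hT : RootD.IsClosedSub P {k | k ∈ S0 ∧ φ (rootL P k) = 0} := fun i j k hi hj he =>
    ⟨closed_of_isPosSys hS0 hi.1 hj.1 he, by rw [rootL_eq_add he, map_add, hi.2, hj.2, add_zero]⟩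
  have hS := isPosSys_glue φ {k | k ∈ S0 ∧ φ (rootL P k) = 0} (fun k hk => hk.2)
    (fun k hk h => hS0.disjoint hk.1 h.1)
    (fun k hk => (hS0.cover k).imp (fun h => ⟨h, hk⟩)
      fun h => ⟨h, by rw [rootL_neg, map_neg, hk, neg_zero]⟩) hT
  refine ⟨_, _, isSimpleSys_indec hS, Set.inter_subset_left (t := R'), ?_⟩
  ext k
  constructor
  · intro hk
    have key : ∀ x, x ∈ R' → x ∈ {k | 0 < φ (rootL P k)} ∪ {k | k ∈ S0 ∧ φ (rootL P k) = 0} →
        P.root x ∈ Submodule.span ℤ (P.root '' (indec P _ ∩ R')) := fun x hxR hx => by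
      obtain ⟨c, hc, hc0, he⟩ := exists_finsupp_of_mem_natSpan (mem_natSpan_indec hS hx)
      refine (Finsupp.mem_span_image_iff_linearCombination ℤ).2
        ⟨c, (Finsupp.mem_supported ℤ c).2 fun a ha => ⟨hc ha, ?_⟩, he⟩
      refine (hφ a).1 (eq_zero_of_nonneg_combination φ (fun b hb => ?_) hc hc0 he ((hφ x).2 hxR)
        (Finsupp.mem_support_iff.1 ha))
      rcases hb.1 with h | h
      · exact h.le
      · exact h.2.ge
    rcases hS.cover k with h | h
    · exact key k hk h
    · have h0 : P.reflectionPerm k k ∈ R' := (hφ _).1 (by rw [rootL_neg, map_neg, (hφ k).2 hk, neg_zero])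
      have h1 := key _ h0 h
      rw [root_neg, neg_mem_iff] at h1
      exact h1
  · intro hk
    refine hsat k ⟨1, one_pos, ?_⟩
    rw [one_smul]
    exact Submodule.span_mono (Set.image_mono Set.inter_subset_right) hk

/-- Simple roots of a saturated subsystem extend to a simple system. -/
theorem exists_extend [Finite ι] (R' : Set ι)
    (hsat : ∀ k : ι, (∃ n : ℕ, 0 < n ∧ n • P.root k ∈ Submodule.span ℤ (P.root '' R')) → k ∈ R')
    (Δ' : Set ι) (hΔ'R : Δ' ⊆ R') (hli : LinearIndepOn ℤ P.root Δ')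
    (hgen : ∀ k ∈ R', P.root k ∈ RootD.natSpan P Δ' ∨ -P.root k ∈ RootD.natSpan P Δ') :
    ∃ Δ : Set ι, RootD.IsSimpleSys P Δ ∧ Δ' ⊆ Δ ∧ R' = RootD.inSpan P Δ' := by
  obtain ⟨φ, hφ⟩ := exists_functional hsat
  have hR : ∀ k ∈ RootD.posOf P Δ', k ∈ R' := fun k hk => hsat k ⟨1, one_pos, by
    rw [one_smul]; exact Submodule.span_mono (Set.image_mono hΔ'R) (natSpan_le_span Δ' hk)⟩
  have hS := isPosSys_glue φ (RootD.posOf P Δ') (fun k hk => (hφ k).2 (hR k hk))
    (fun k hk hk' => by
      obtain ⟨c, hc, hc0, he⟩ := exists_finsupp_of_mem_natSpan hk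
      obtain ⟨d, hd, hd0, he'⟩ := exists_finsupp_of_mem_natSpan hk'
      rw [root_neg] at he'
      have h1 := coeff_eq_of_linInd hli hc (d := -d) (by rwa [Finsupp.support_neg])
        (by rw [map_neg, he, he', neg_neg])
      refine P.ne_zero k ?_
      rw [← he, show c = 0 from Finsupp.ext fun a => ?_, map_zero]
      have h2 := DFunLike.congr_fun h1 a
      rw [Finsupp.neg_apply] at h2
      have := hc0 a
      have := hd0 a
      simp only [Finsupp.coe_zero, Pi.zero_apply]
      omega)
    (fun k hk => (hgen k ((hφ k).1 hk)).imp id fun h => by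
      show P.root _ ∈ RootD.natSpan P Δ'
      rwa [root_neg])
    (fun i j k hi hj he => by
      show P.root k ∈ RootD.natSpan P Δ'
      rw [he]; exact add_mem hi hj)
  refine ⟨_, isSimpleSys_indec hS, fun a ha => ⟨Or.inr (root_mem_natSpan ha), ?_⟩, ?_⟩
  · rintro ⟨i, j, hi, hj, he⟩
    have h0 : φ (rootL P i) + φ (rootL P j) = 0 := by
      rw [← map_add, ← rootL_eq_add he]; exact (hφ a).2 (hΔ'R ha)
    have key : ∀ x, x ∈ {k | 0 < φ (rootL P k)} ∪ RootD.posOf P Δ' →
        0 < φ (rootL P x) ∨ (φ (rootL P x) = 0 ∧ x ∈ RootD.posOf P Δ') := by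
      rintro x (h | h)
      · exact Or.inl h
      · exact Or.inr ⟨(hφ x).2 (hR x h), h⟩
    rcases key i hi with h | ⟨h, hi'⟩ <;> rcases key j hj with h' | ⟨h', hj'⟩ <;> try omega
    obtain ⟨c, hc, hc0, hce⟩ := exists_finsupp_of_mem_natSpan hi'
    obtain ⟨d, hd, hd0, hde⟩ := exists_finsupp_of_mem_natSpan hj'
    classical
    have h1 := coeff_eq_of_linInd hli (c := Finsupp.single a 1) (d := c + d)
      (by rw [Finsupp.support_single_ne_zero a one_ne_zero]; simpa using ha)
      (fun x hx => (Finset.mem_union.1 (Finsupp.support_add hx)).elim (fun h => hc h) fun h => hd h)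
      (by rw [map_add, hce, hde, Finsupp.linearCombination_single, one_smul, he])
    have hz : ∀ (e : ι →₀ ℤ), e a = 0 → (∀ b, b ≠ a → e b = 0) → e = 0 := fun e h1 h2 =>
      Finsupp.ext fun b => by by_cases hb : b = a <;> simp [hb, h1, h2]
    have hoff : ∀ b, b ≠ a → c b = 0 ∧ d b = 0 := fun b hb => by
      have h2 := DFunLike.congr_fun h1 b
      rw [Finsupp.single_eq_of_ne hb, Finsupp.add_apply] at h2
      have := hc0 b
      have := hd0 b
      omega
    have hon : c a + d a = 1 := by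
      have h2 := DFunLike.congr_fun h1 a
      rw [Finsupp.single_eq_same, Finsupp.add_apply] at h2
      exact h2.symm
    by_cases hca : c a = 0
    · refine P.ne_zero i ?_
      rw [← hce, hz c hca fun b hb => (hoff b hb).1, map_zero]
    · refine P.ne_zero j ?_
      have := hc0 a
      have := hd0 a
      rw [← hde, hz d (by omega) fun b hb => (hoff b hb).2, map_zero]
  · ext k
    refine ⟨fun hk => ?_, fun hk => hsat k ⟨1, one_pos, by
      rw [one_smul]; exact Submodule.span_mono (Set.image_mono hΔ'R) hk⟩⟩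
    show P.root k ∈ Submodule.span ℤ (P.root '' Δ')
    rcases hgen k hk with h | h
    · exact natSpan_le_span _ h
    · exact neg_mem_iff.1 (natSpan_le_span _ h)

end RootSysLib

namespace RootSysLib

open RootPairing RootBasicLib

variable {ι M N : Type*} [AddCommGroup M] [AddCommGroup N] {P : RootPairing ι ℤ M N} [Finite ι]
variable {Δ : Set ι} (hΔ : RootD.IsSimpleSys P Δ) {Δ' : Set ι} (hsub : Δ' ⊆ Δ)
include hΔ hsub

theorem coef_smul_eq {g : P.Aut}
    (hg : g ∈ Subgroup.closure ((fun i : ι => Equiv.reflection P i) '' Δ')) :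
    ∀ k a, a ∉ Δ' → coef hΔ (g • k) a = coef hΔ k a := by
  induction hg using Subgroup.closure_induction with
  | mem x hx =>
    obtain ⟨i, hi, rfl⟩ := hx
    intro k a ha
    rw [reflection_smul_idx, coef_reflect_apply hΔ (hsub hi) k fun h : a = i => ha (h ▸ hi)]
  | one => intro k a _; rw [one_smul]
  | mul x y _ _ hx hy => intro k a ha; rw [mul_smul, hx _ a ha, hy k a ha]
  | inv x _ hx =>
    intro k a ha
    have := hx (x⁻¹ • k) a ha
    rw [smul_inv_smul] at this
    exact this.symm

theorem mem_closure_of_coef {g : P.Aut} (hg : g ∈ P.weylGroup)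
    (h : ∀ k a, a ∉ Δ' → coef hΔ (g • k) a = coef hΔ k a) :
    g ∈ Subgroup.closure ((fun i : ι => Equiv.reflection P i) '' Δ') := by
  induction hn : {k | k ∈ RootD.posOf P Δ ∧ g • k ∉ RootD.posOf P Δ}.ncard
      using Nat.strong_induction_on generalizing g with
  | _ n ih =>
    by_cases hall : ∀ a ∈ Δ, g • a ∈ RootD.posOf P Δ
    · rw [eq_one_of_preserves hΔ hg hall]; exact one_mem _
    push Not at hall
    obtain ⟨a, ha, hga⟩ := hall
    have haΔ' : a ∈ Δ' := by
      by_contra hcon
      refine hga (mem_posOf_of_coef_pos hΔ (a := a) ?_)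
      rw [h a a hcon, coef_self hΔ ha, Finsupp.single_eq_same]
      exact one_pos
    have hs : Equiv.reflection P a ∈ Subgroup.closure ((fun i : ι => Equiv.reflection P i) '' Δ') :=
      Subgroup.subset_closure ⟨a, haΔ', rfl⟩
    suffices hgs : g * Equiv.reflection P a ∈
        Subgroup.closure ((fun i : ι => Equiv.reflection P i) '' Δ') by
      have := mul_mem hgs (inv_mem hs)
      rwa [mul_inv_cancel_right] at this
    refine ih _ ?_ (mul_mem hg (reflection_mem a)) (fun k b hb => ?_) rfl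
    · rw [← hn]
      refine lt_of_le_of_lt ?_ (Set.ncard_sdiff_singleton_lt_of_mem (a := a)
        ⟨self_subset_posOf Δ ha, hga⟩ (Set.toFinite _))
      refine Set.ncard_le_ncard_of_injOn (fun k => P.reflectionPerm a k) ?_
        (fun x _ y _ e => (P.reflectionPerm a).injective e) (Set.toFinite _)
      rintro k ⟨hk, hgk⟩
      rw [mul_smul, reflection_smul_idx] at hgk
      rcases reflect_mem_posOf_or hΔ ha hk with hpos | ⟨c, hc, he⟩
      · refine ⟨⟨hpos, hgk⟩, fun hxa => ?_⟩
        change P.reflectionPerm a k = a at hxa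
        have hka : k = P.reflectionPerm a a := by
          apply (P.reflectionPerm a).injective
          rw [hxa, P.reflectionPerm_self]
        rw [hka] at hk
        exact neg_notMem_posOf hΔ (self_subset_posOf Δ ha) hk
      · refine absurd ?_ hgk
        show P.root (g • P.reflectionPerm a k) ∈ RootD.natSpan P Δ
        have h1 : P.root (P.reflectionPerm a k) = c • (-P.root a) := by
          rw [P.root_reflectionPerm, he, map_zsmul, P.reflection_apply_self]
        have h2 : -P.root (g • a) ∈ RootD.natSpan P Δ := (hΔ.mem_or_neg_mem _).resolve_left hga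
        rw [root_smul, h1, map_smul_zsmul, smul_neg, ← root_smul, ← Int.toNat_of_nonneg hc.le,
          natCast_zsmul]
        exact nsmul_mem h2 _
    · rw [mul_smul, h _ b hb, coef_smul_eq hΔ hsub hs k b hb]

end RootSysLib

namespace RootSysLib

open RootPairing RootBasicLib

variable {ι M N : Type*} [AddCommGroup M] [AddCommGroup N] {P : RootPairing ι ℤ M N}

theorem closed_superset_eq [Finite ι] (S : Set ι) (hS : RootD.IsPosSys P S) (Δ : Set ι)
    (hΔ : RootD.IsSimpleSys P Δ) (hΔS : Δ ⊆ S) (P' : Set ι) (hcl : RootD.IsClosedSub P P')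
    (hSP : S ⊆ P') :
    P' = S ∪ {k : ι | -P.root k ∈ RootD.natSpan P {i : ι | i ∈ Δ ∧ P.reflectionPerm i i ∈ P'}} := by
  have hpos := posOf_eq_of_subset hΔ hS hΔS
  ext k
  constructor
  · intro hk
    by_cases hkS : k ∈ S
    · exact Or.inl hkS
    right
    show -P.root k ∈ RootD.natSpan P {i : ι | i ∈ Δ ∧ P.reflectionPerm i i ∈ P'}
    rw [← root_neg (P := P)]
    have hj : P.reflectionPerm k k ∈ RootD.posOf P Δ := hpos ▸ (notMem_iff hS).1 hkS
    have hj' : P.reflectionPerm (P.reflectionPerm k k) (P.reflectionPerm k k) ∈ P' := by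
      rwa [neg_neg_idx]
    clear hk hkS
    generalize P.reflectionPerm k k = j at hj hj'
    revert hj'
    refine posOf_induction hΔ (p := fun j => P.reflectionPerm j j ∈ P' →
      P.root j ∈ RootD.natSpan P {i : ι | i ∈ Δ ∧ P.reflectionPerm i i ∈ P'})
      (fun a ha ha' => root_mem_natSpan ⟨ha, ha'⟩) ?_ hj
    intro j hj a ha j' hj'' _ he hrec hjP
    rw [he]
    refine add_mem (root_mem_natSpan ⟨ha, hcl hjP (hSP (hpos ▸ hj'')) ?_⟩) (hrec (hcl hjP (hSP (hΔS ha)) ?_))
    · rw [root_neg, root_neg, he]; abel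
    · rw [root_neg, root_neg, he]; abel
  · rintro (hk | hk)
    · exact hSP hk
    refine (isClosedSub_iff_natSpan P P').1 hcl k ?_
    change -P.root k ∈ RootD.natSpan P _ at hk
    obtain ⟨L, hL, hsum⟩ := exists_list_of_mem_natSpan P hk
    rw [← neg_neg (P.root k), ← hsum, List.sum_neg, List.map_map]
    refine list_sum_mem fun x hx => ?_
    obtain ⟨r, hr, rfl⟩ := List.mem_map.1 hx
    show -P.root r ∈ RootD.natSpan P P'
    rw [← root_neg (P := P)]
    exact root_mem_natSpan (hL r hr).2

end RootSysLib
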