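/-
Orthogonality of roots, components.
-/
import Groth.Agent.RootSys.Facts

set_option autoImplicit false

namespace RootSysLib

open RootPairing RootBasicLib

variable {ι M N : Type*} [AddCommGroup M] [AddCommGroup N] {P : RootPairing ι ℤ M N}

theorem coroot'_smul_smul (u : P.Aut) (i : ι) (x : M) :
    P.coroot' (u • i) (u • x) = P.coroot' i x :=
  coroot'_smul_index u i x

theorem isOrthogonal_smul_iff (u : P.Aut) {i j : ι} :
    P.IsOrthogonal (u • i) (u • j) ↔ P.IsOrthogonal i j := by
  simp only [RootPairing.IsOrthogonal, ← P.root_coroot'_eq_pairing, root_smul, coroot'_smul_smul]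

variable [Finite ι]

theorem bform_smul (u : P.Aut) (x y : M) : bform P (u • x) (u • y) = bform P x y := by
  let _ := Fintype.ofFinite ι
  show P.RootForm (u • x) (u • y) = P.RootForm x y
  rw [P.rootForm_apply_apply, P.rootForm_apply_apply]
  refine (Fintype.sum_equiv (MulAction.toPerm u) _ _ fun i => ?_).symm
  rw [MulAction.toPerm_apply, coroot'_smul_smul, coroot'_smul_smul]

theorem isOrthogonal_iff_bform {i j : ι} :
    P.IsOrthogonal i j ↔ bform P (P.root i) (P.root j) = 0 := by
  have h := two_bform_apply_root P (P.root i) j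
  have h' := two_bform_apply_root P (P.root j) i
  rw [P.root_coroot'_eq_pairing] at h h'
  rw [bform_symm P (P.root j) (P.root i)] at h'
  constructor
  · intro ho
    rw [ho.1, mul_zero] at h
    omega
  · intro h0
    rw [h0, mul_zero] at h h'
    exact ⟨(mul_eq_zero.1 h.symm).resolve_left (bform_root_pos P j).ne',
      (mul_eq_zero.1 h'.symm).resolve_left (bform_root_pos P i).ne'⟩

theorem not_isOrthogonal_of_pairing {i j : ι} (h : P.pairing i j ≠ 0) : ¬ P.IsOrthogonal i j :=
  fun ho => h ho.1

theorem isOrthogonal_symm' {i j : ι} (h : ¬ P.IsOrthogonal i j) : ¬ P.IsOrthogonal j i :=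
  fun ho => h ⟨ho.2, ho.1⟩

variable (P) in
/-- The relation generated by non-orthogonality. -/
abbrev Linked : ι → ι → Prop := Relation.ReflTransGen fun a b : ι => ¬ P.IsOrthogonal a b

theorem linked_symm {i j : ι} (h : Linked P i j) : Linked P j i :=
  by
  induction h with
  | refl => exact .refl
  | tail _ hab ih => exact .head (isOrthogonal_symm' hab) ih

theorem linked_neg (i : ι) : Linked P i (P.reflectionPerm i i) := by
  refine .single fun h => ?_
  have h1 := isOrthogonal_iff_bform.1 h
  rw [root_neg, map_neg, neg_eq_zero] at h1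
  exact (bform_root_pos P i).ne' h1

theorem not_orth_of_eq_add {i j k : ι} (h : P.root k = P.root i + P.root j) :
    ¬ P.IsOrthogonal k i ∨ ¬ P.IsOrthogonal k j := by
  by_contra! hc
  have h1 := bform_root_pos P k
  conv at h1 => arg 2; arg 2; rw [h]
  rw [map_add, isOrthogonal_iff_bform.1 hc.1, isOrthogonal_iff_bform.1 hc.2] at h1
  simp at h1

theorem isClosedSub_component (i : ι) : RootD.IsClosedSub P {j | Linked P i j} := by
  intro a b k ha hb he
  rcases not_orth_of_eq_add he with h | h
  · exact Relation.ReflTransGen.tail ha (isOrthogonal_symm' h)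
  · exact Relation.ReflTransGen.tail hb (isOrthogonal_symm' h)

theorem isSymmSub_component (i : ι) : RootD.IsSymmSub P {j | Linked P i j} :=
  fun j hj => Relation.ReflTransGen.trans hj (linked_neg j)

theorem isClosedSub_component_compl (i : ι) : RootD.IsClosedSub P {j | Linked P i j}ᶜ := by
  intro a b k ha hb he hk
  rcases not_orth_of_eq_add he with h | h
  · exact ha (Relation.ReflTransGen.tail hk h)
  · exact hb (Relation.ReflTransGen.tail hk h)

theorem isSymmSub_component_compl (i : ι) : RootD.IsSymmSub P {j | Linked P i j}ᶜ := by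
  intro j hj hj'
  refine hj (Relation.ReflTransGen.trans hj' ?_)
  exact linked_symm (linked_neg j)

theorem linked_of_irreducible
    (hirr : ∀ R' : Set ι, RootD.IsClosedSub P R' → RootD.IsSymmSub P R' → RootD.IsClosedSub P R'ᶜ →
      RootD.IsSymmSub P R'ᶜ → R' = ∅ ∨ R' = Set.univ) (i j : ι) : Linked P i j := by
  rcases hirr _ (isClosedSub_component i) (isSymmSub_component i) (isClosedSub_component_compl i)
    (isSymmSub_component_compl i) with h | h
  · exact absurd (h ▸ (Relation.ReflTransGen.refl : Linked P i i) : i ∈ (∅ : Set ι)) (Set.notMem_empty i)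
  · exact (Set.eq_univ_iff_forall.1 h) j

/-- Linked roots: some conjugate of one is not orthogonal to the other. -/
theorem exists_conj_not_orth {i j : ι} (h : Linked P i j) :
    ∃ g ∈ P.weylGroup, ¬ P.IsOrthogonal i (g • j) := by
  induction h with
  | refl =>
    refine ⟨1, one_mem _, fun ho => (bform_root_pos P i).ne' ?_⟩
    rw [one_smul] at ho
    exact isOrthogonal_iff_bform.1 ho
  | @tail a b _ hab ih =>
    obtain ⟨g, hg, hga⟩ := ih
    rw [← isOrthogonal_smul_iff g] at hab
    by_cases hb : P.IsOrthogonal i (g • b)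
    · refine ⟨Equiv.reflection P (g • a) * g, mul_mem (reflection_mem _) hg, fun ho => ?_⟩
      rw [mul_smul, reflection_smul_idx, isOrthogonal_iff_bform, root_reflectionPerm', map_sub,
        map_zsmul, isOrthogonal_iff_bform.1 hb, zero_sub, neg_eq_zero, smul_eq_mul, mul_eq_zero] at ho
      haveI := torsionFree P
      rcases ho with ho | ho
      · exact hab ⟨(P.pairing_eq_zero_iff).1 ho, ho⟩
      · exact hga (isOrthogonal_iff_bform.2 ho)
    · exact ⟨g, hg, hb⟩

theorem exists_conj_of_eq_length {i j : ι} (hno : ¬ P.IsOrthogonal i j)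
    (hl : bform P (P.root i) (P.root i) = bform P (P.root j) (P.root j)) :
    ∃ g : P.Aut, g ∈ P.weylGroup ∧ g • i = j := by
  have hp := bform_root_pos P i
  have e1 := two_bform_apply_root P (P.root i) j
  have e2 := two_bform_apply_root P (P.root j) i
  rw [P.root_coroot'_eq_pairing, bform_symm P (P.root j) (P.root i)] at e2
  rw [P.root_coroot'_eq_pairing, ← hl] at e1
  have hsym : P.pairing j i = P.pairing i j := mul_left_cancel₀ hp.ne' (e2.symm.trans e1)
  have hne : P.pairing i j ≠ 0 := fun h => hno ⟨h, hsym.trans h⟩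
  have s1 := bform_self_nonneg P (P.root i - P.root j)
  have s2 := bform_self_nonneg P (P.root i + P.root j)
  simp only [map_add, map_sub, LinearMap.add_apply, LinearMap.sub_apply,
    bform_symm P (P.root j) (P.root i), ← hl] at s1 s2
  have hmem : ∀ k, P.root k ∈ Submodule.span ℤ (Set.range P.root) := fun k =>
    Submodule.subset_span (Set.mem_range_self k)
  have hb1 : P.pairing i j ≤ 2 := by nlinarith
  have hb2 : -2 ≤ P.pairing i j := by nlinarith
  rcases (show P.pairing i j = 2 ∨ P.pairing i j = -2 ∨ P.pairing i j = 1 ∨ P.pairing i j = -1 by omega)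
    with h | h | h | h
  · refine ⟨1, one_mem _, ?_⟩
    rw [one_smul]
    apply P.root.injective
    refine sub_eq_zero.1 (bform_self_eq_zero (sub_mem (hmem i) (hmem j)) ?_)
    simp only [map_sub, LinearMap.sub_apply, bform_symm P (P.root j) (P.root i), ← hl]
    rw [h] at e1
    linarith
  · refine ⟨Equiv.reflection P i, reflection_mem i, ?_⟩
    rw [reflection_smul_idx]
    apply P.root.injective
    rw [root_neg]
    have := bform_self_eq_zero (add_mem (hmem i) (hmem j)) (by
      simp only [map_add, LinearMap.add_apply, bform_symm P (P.root j) (P.root i), ← hl]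
      rw [h] at e1
      linarith)
    exact neg_eq_of_add_eq_zero_right this
  · refine ⟨Equiv.reflection P j * Equiv.reflection P i * Equiv.reflection P j,
      mul_mem (mul_mem (reflection_mem j) (reflection_mem i)) (reflection_mem j), ?_⟩
    rw [mul_smul, mul_smul, reflection_smul_idx, reflection_smul_idx, reflection_smul_idx]
    apply P.root.injective
    simp only [P.root_reflectionPerm, P.reflection_apply_root, map_sub, map_zsmul, P.pairing_same, h,
      hsym]
    module
  · refine ⟨Equiv.reflection P i * Equiv.reflection P j, mul_mem (reflection_mem i) (reflection_mem j), ?_⟩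
    rw [mul_smul, reflection_smul_idx, reflection_smul_idx]
    apply P.root.injective
    simp only [P.root_reflectionPerm, P.reflection_apply_root, map_sub, map_zsmul, P.pairing_same, h,
      hsym]
    module

theorem mem_of_not_orth {R' : Set ι} (hc : RootD.IsClosedSub P R') (hs : RootD.IsSymmSub P R')
    (hc' : RootD.IsClosedSub P R'ᶜ) (hs' : RootD.IsSymmSub P R'ᶜ) {i j : ι} (hi : i ∈ R')
    (hij : ¬ P.IsOrthogonal i j) : j ∈ R' := by
  haveI := torsionFree P
  by_contra hj
  have hne : P.pairing i j ≠ 0 := fun h => hij ⟨h, (P.pairing_eq_zero_iff).1 h⟩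
  have key : ∀ a ∈ R', P.pairing a j < 0 → False := by
    intro a ha hp
    obtain ⟨k, hk⟩ := exists_root_eq_add hp fun he => by
      rw [root_eq_neg_iff] at he
      exact (he ▸ hs' (Set.mem_compl hj) : a ∈ R'ᶜ) ha
    by_cases hkR : k ∈ R'
    · exact hj (hc hkR (hs ha) (by rw [root_neg, hk]; abel))
    · exact (hc' hkR (hs' hj) (by rw [root_neg, hk]; abel) : a ∈ R'ᶜ) ha
  rcases lt_or_gt_of_ne hne with h | h
  · exact key i hi h
  · refine key _ (hs hi) ?_
    rw [← P.root_coroot'_eq_pairing, root_neg, map_neg, P.root_coroot'_eq_pairing]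
    omega

section Simple

variable {Δ Δ' : Set ι} (hΔ : RootD.IsSimpleSys P Δ) (hsub : Δ' ⊆ Δ)
include hΔ hsub

theorem inSpan_or (horth : ∀ i ∈ Δ', ∀ j ∈ Δ \ Δ', P.IsOrthogonal i j) (k : ι) :
    k ∈ RootD.inSpan P Δ' ∨ k ∈ RootD.inSpan P (Δ \ Δ') := by
  classical
  have key : ∀ k ∈ RootD.posOf P Δ, (∀ a ∉ Δ', coef hΔ k a = 0) ∨ (∀ a ∈ Δ', coef hΔ k a = 0) := by
    intro k hk
    refine posOf_induction hΔ
      (p := fun k => (∀ a ∉ Δ', coef hΔ k a = 0) ∨ (∀ a ∈ Δ', coef hΔ k a = 0)) (fun a ha => ?_) ?_ hk
    · rw [coef_self hΔ ha]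
      by_cases h : a ∈ Δ'
      · exact Or.inl fun b hb => Finsupp.single_eq_of_ne fun e => hb (e ▸ h)
      · exact Or.inr fun b hb => Finsupp.single_eq_of_ne fun e => h (e ▸ hb)
    · intro k hk a ha j hj hp he hj'
      have hca := coef_add hΔ he
      rw [coef_self hΔ ha] at hca
      have hsplit : ∀ s : Set ι, a ∈ s → (∀ b ∉ s, coef hΔ j b = 0) → ∀ b ∉ s, coef hΔ k b = 0 := by
        intro s has h b hb
        rw [hca, Finsupp.add_apply, h b hb, Finsupp.single_eq_of_ne fun e : b = a => hb (e.symm ▸ has), add_zero]
      rcases hj' with hj' | hj'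
      · by_cases h : a ∈ Δ'
        · exact Or.inl (hsplit Δ' h hj')
        · exfalso
          have hzero : P.pairing j a = 0 := by
            rw [← P.root_coroot'_eq_pairing, ← lc_coef hΔ j, Finsupp.linearCombination_apply,
              Finsupp.sum, map_sum]
            refine Finset.sum_eq_zero fun b hb => ?_
            have hbΔ' : b ∈ Δ' := by_contra fun hc => Finsupp.mem_support_iff.1 hb (hj' b hc)
            rw [map_zsmul, P.root_coroot'_eq_pairing, (horth b hbΔ' a ⟨ha, h⟩).1, smul_zero]
          obtain ⟨b, hb⟩ := exists_coef_pos hΔ hj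
          have hba : b ≠ a := fun e => h (e ▸ by_contra fun hc => hb.ne' (hj' b hc))
          have hr : coef hΔ (P.reflectionPerm a k) = coef hΔ j - Finsupp.single a 1 := by
            rw [coef_reflect, coef_self hΔ ha, hca]
            have : P.pairing k a = 2 := by
              rw [← P.root_coroot'_eq_pairing, he, map_add, P.root_coroot'_eq_pairing,
                P.root_coroot'_eq_pairing, hzero, P.pairing_same, add_zero]
            rw [this]
            module
          rcases pos_or_neg hΔ (P.reflectionPerm a k) with h1 | h1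
          · have h2 := h1 a
            rw [hr, Finsupp.sub_apply, Finsupp.single_eq_same, hj' a h] at h2
            omega
          · have h2 := h1 b
            rw [hr, Finsupp.sub_apply, Finsupp.single_eq_of_ne hba] at h2
            omega
      · by_cases h : a ∈ Δ'
        · exfalso
          have hzero : P.pairing j a = 0 := by
            rw [← P.root_coroot'_eq_pairing, ← lc_coef hΔ j, Finsupp.linearCombination_apply,
              Finsupp.sum, map_sum]
            refine Finset.sum_eq_zero fun b hb => ?_
            have hbΔ' : b ∈ Δ \ Δ' := ⟨support_coef hΔ j hb,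
              fun hc => Finsupp.mem_support_iff.1 hb (hj' b hc)⟩
            rw [map_zsmul, P.root_coroot'_eq_pairing, (horth a h b hbΔ').2, smul_zero]
          obtain ⟨b, hb⟩ := exists_coef_pos hΔ hj
          have hba : b ≠ a := fun e => hb.ne' (hj' b (e ▸ h))
          have hr : coef hΔ (P.reflectionPerm a k) = coef hΔ j - Finsupp.single a 1 := by
            rw [coef_reflect, coef_self hΔ ha, hca]
            have : P.pairing k a = 2 := by
              rw [← P.root_coroot'_eq_pairing, he, map_add, P.root_coroot'_eq_pairing,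
                P.root_coroot'_eq_pairing, hzero, P.pairing_same, add_zero]
            rw [this]
            module
          rcases pos_or_neg hΔ (P.reflectionPerm a k) with h1 | h1
          · have h2 := h1 a
            rw [hr, Finsupp.sub_apply, Finsupp.single_eq_same, hj' a h] at h2
            omega
          · have h2 := h1 b
            rw [hr, Finsupp.sub_apply, Finsupp.single_eq_of_ne hba] at h2
            omega
        · refine Or.inr fun b hb => hsplit Δ'ᶜ h (fun c hc => hj' c (not_not.1 hc)) b ?_
          exact fun hc => hc hb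
  have conv : ∀ k, ((∀ a ∉ Δ', coef hΔ k a = 0) ∨ (∀ a ∈ Δ', coef hΔ k a = 0)) →
      (k ∈ RootD.inSpan P Δ' ∨ k ∈ RootD.inSpan P (Δ \ Δ')) := fun k h => by
    rcases h with h | h
    · exact Or.inl ((mem_inSpan_iff hΔ hsub).2 h)
    · refine Or.inr ((mem_inSpan_iff hΔ Set.sdiff_subset).2 fun a ha => ?_)
      by_cases haΔ : a ∈ Δ
      · exact h a (not_not.1 fun hc => ha ⟨haΔ, hc⟩)
      · exact coef_apply_eq_zero hΔ haΔ
  rcases (isPosSys_posOf hΔ).cover k with h | h
  · exact conv k (key k h)
  · refine conv k ((key _ h).imp (fun h a ha => ?_) fun h a ha => ?_) <;>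
      simpa [coef_neg] using h a ha

end Simple

end RootSysLib
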