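/-
Lengths of roots and coroots.
-/
import Groth.Agent.RootSys.Orth

set_option autoImplicit false

namespace RootSysLib

open RootPairing RootBasicLib

variable {ι M N : Type*} [AddCommGroup M] [AddCommGroup N] {P : RootPairing ι ℤ M N}

theorem pairing_flip (i j : ι) : P.flip.pairing i j = P.pairing j i := rfl

theorem isOrthogonal_flip {i j : ι} : P.flip.IsOrthogonal i j ↔ P.IsOrthogonal i j :=
  ⟨fun h => ⟨h.2, h.1⟩, fun h => ⟨h.2, h.1⟩⟩

variable [Finite ι]

theorem rootForm_eq_bform [Fintype ι] (x y : M) : P.RootForm x y = bform P x y := by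
  unfold bform
  convert rfl

theorem two_bform_root (i j : ι) :
    2 * bform P (P.root i) (P.root j) = bform P (P.root j) (P.root j) * P.pairing i j := by
  rw [← P.root_coroot'_eq_pairing, two_bform_apply_root]

theorem pairing_mul_length (i j : ι) :
    bform P (P.root j) (P.root j) * P.pairing i j = bform P (P.root i) (P.root i) * P.pairing j i := by
  rw [← two_bform_root, ← two_bform_root, bform_symm]

theorem length_reflectionPerm (i j : ι) :
    bform P (P.root (P.reflectionPerm i j)) (P.root (P.reflectionPerm i j)) =
      bform P (P.root j) (P.root j) := by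
  rw [← reflection_smul_idx, root_smul, bform_smul]

variable (P) in
/-- Twice the polarization. -/
noncomputable def pol : M →ₗ[ℤ] N :=
  letI := Fintype.ofFinite ι
  (2 : ℤ) • P.Polarization

theorem pol_root (i : ι) : pol P (P.root i) = bform P (P.root i) (P.root i) • P.coroot i := by
  let _ := Fintype.ofFinite ι
  have h := P.rootForm_self_smul_coroot i
  rw [rootForm_eq_bform] at h
  rw [h]
  show (2 : ℤ) • P.Polarization (P.root i) = 2 • P.Polarization (P.root i)
  exact (natCast_zsmul _ 2)

theorem pol_lc (c : ι →₀ ℤ) : pol P (Finsupp.linearCombination ℤ P.root c) =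
    Finsupp.linearCombination ℤ (fun a => bform P (P.root a) (P.root a) • P.coroot a) c := by
  rw [Finsupp.linearCombination_apply, Finsupp.linearCombination_apply, map_finsuppSum]
  exact Finsupp.sum_congr fun a _ => by rw [map_zsmul, pol_root]

variable (P) in
/-- The product of the lengths of a root and of its coroot. -/
noncomputable def lam (i : ι) : ℤ :=
  bform P (P.root i) (P.root i) * bform P.flip (P.coroot i) (P.coroot i)

theorem pol_flip_pol (i : ι) : pol P.flip (pol P (P.root i)) = lam P i • P.root i := by
  rw [pol_root, map_zsmul]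
  refine (congrArg (bform P (P.root i) (P.root i) • ·) (pol_root (P := P.flip) i)).trans ?_
  exact smul_smul _ _ _

theorem lam_eq_of_not_orth {i j : ι} (h : ¬ P.IsOrthogonal i j) : lam P i = lam P j := by
  have hne : P.pairing j i ≠ 0 := fun h0 => h ⟨(P.pairing_eq_zero_iff' (i := j) (j := i)).1 h0, h0⟩
  have hl : lam P (P.reflectionPerm i j) = lam P j := by
    unfold lam
    rw [length_reflectionPerm]
    exact congrArg _ (length_reflectionPerm (P := P.flip) i j)
  have h1 := pol_flip_pol (P := P) (P.reflectionPerm i j)
  rw [hl, root_reflectionPerm', map_sub, map_sub, map_zsmul, map_zsmul, pol_flip_pol, pol_flip_pol,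
    smul_sub, sub_right_inj, smul_smul, smul_smul] at h1
  have := smul_left_inj P (P.ne_zero i) h1
  exact mul_left_cancel₀ hne (this.trans (mul_comm _ _))

theorem lam_eq_of_linked {i j : ι} (h : Linked P i j) : lam P i = lam P j := by
  induction h with
  | refl => rfl
  | tail _ hab ih => exact ih.trans (lam_eq_of_not_orth hab)

theorem cauchy (i j : ι) : bform P (P.root i) (P.root j) * bform P (P.root i) (P.root j) ≤
    bform P (P.root i) (P.root i) * bform P (P.root j) (P.root j) := by
  have h := bform_self_nonneg P (bform P (P.root j) (P.root j) • P.root i -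
    bform P (P.root i) (P.root j) • P.root j)
  simp only [map_sub, map_zsmul, LinearMap.sub_apply, LinearMap.smul_apply, smul_eq_mul,
    bform_symm P (P.root j) (P.root i)] at h
  have hj := bform_root_pos P j
  nlinarith

theorem dependent_of_cauchy_eq {i j : ι}
    (he : bform P (P.root i) (P.root j) * bform P (P.root i) (P.root j) =
      bform P (P.root i) (P.root i) * bform P (P.root j) (P.root j)) :
    ¬ LinearIndependent ℤ ![P.root i, P.root j] := by
  intro hli
  have hz : bform P (P.root j) (P.root j) • P.root i -
      bform P (P.root i) (P.root j) • P.root j = 0 := by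
    refine bform_self_eq_zero (P := P) (sub_mem ?_ ?_) ?_
    · exact Submodule.smul_mem _ _ (Submodule.subset_span (Set.mem_range_self i))
    · exact Submodule.smul_mem _ _ (Submodule.subset_span (Set.mem_range_self j))
    · simp only [map_sub, map_zsmul, LinearMap.sub_apply, LinearMap.smul_apply, smul_eq_mul,
        bform_symm P (P.root j) (P.root i)]
      linear_combination (-(bform P (P.root j) (P.root j))) * he
  rw [sub_eq_add_neg, ← neg_smul] at hz
  exact (bform_root_pos P j).ne' (LinearIndependent.pair_iff.1 hli _ _ hz).1

theorem coxeterWeight_le_four (i j : ι) : P.pairing i j * P.pairing j i ≤ 4 := by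
  have h := cauchy (P := P) i j
  have h1 := two_bform_root (P := P) i j
  have h2 := two_bform_root (P := P) j i
  rw [bform_symm P (P.root j) (P.root i)] at h2
  have hi := bform_root_pos P i
  have hj := bform_root_pos P j
  refine le_of_mul_le_mul_left ?_ (mul_pos hi hj)
  linear_combination 4 * h - 2 * bform P (P.root i) (P.root j) * h2 -
    bform P (P.root i) (P.root i) * P.pairing j i * h1

/-- For non-orthogonal roots the longer squared length is an integral multiple of the shorter. -/
theorem length_ratio {i j : ι} (h : ¬ P.IsOrthogonal i j)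
    (hle : bform P (P.root i) (P.root i) ≤ bform P (P.root j) (P.root j)) :
    ∃ q : ℤ, 1 ≤ q ∧ q ≤ 4 ∧ bform P (P.root j) (P.root j) = q * bform P (P.root i) (P.root i) ∧
      (q = 4 → P.pairing i j * P.pairing j i = 4) := by
  have hne : P.pairing i j ≠ 0 := fun h0 => h ⟨h0, (P.pairing_eq_zero_iff' (i := i) (j := j)).1 h0⟩
  have hne' : P.pairing j i ≠ 0 := fun h0 => h ⟨(P.pairing_eq_zero_iff' (i := j) (j := i)).1 h0, h0⟩
  have e := pairing_mul_length (P := P) i j
  have h4 := coxeterWeight_le_four (P := P) i j
  have hi := bform_root_pos P i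
  have hj := bform_root_pos P j
  set a := bform P (P.root i) (P.root i)
  set b := bform P (P.root j) (P.root j)
  have hsign : 0 < P.pairing i j * P.pairing j i := by
    have : b * (P.pairing i j * P.pairing j i) = a * (P.pairing j i * P.pairing j i) := by
      linear_combination P.pairing j i * e
    refine pos_of_mul_pos_right (a := b) ?_ hj.le
    rw [this]
    exact mul_pos hi (mul_self_pos.2 hne')
  rcases lt_or_gt_of_ne hne with hp | hp
  · have hq : P.pairing j i < 0 := by nlinarith
    have hcmp : P.pairing j i ≤ P.pairing i j := by nlinarith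
    by_cases h1 : P.pairing i j = -1
    · rw [h1] at e h4
      exact ⟨-P.pairing j i, by omega, by omega, by linarith, fun hq4 => by rw [h1]; omega⟩
    · have hp2 : P.pairing i j ≤ -2 := by omega
      have hq2 : P.pairing j i ≤ -2 := by omega
      have h2 : P.pairing i j = -2 ∧ P.pairing j i = -2 := by constructor <;> nlinarith
      rw [h2.1, h2.2] at e
      exact ⟨1, le_rfl, by norm_num, by omega, by norm_num⟩
  · have hq : 0 < P.pairing j i := by nlinarith
    have hcmp : P.pairing i j ≤ P.pairing j i := by nlinarith
    by_cases h1 : P.pairing i j = 1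
    · rw [h1] at e h4
      exact ⟨P.pairing j i, by omega, by omega, by linarith, fun hq4 => by rw [h1]; omega⟩
    · have hp2 : 2 ≤ P.pairing i j := by omega
      have hq2 : 2 ≤ P.pairing j i := by omega
      have h2 : P.pairing i j = 2 ∧ P.pairing j i = 2 := by constructor <;> nlinarith
      rw [h2.1, h2.2] at e
      exact ⟨1, le_rfl, by norm_num, by omega, by norm_num⟩

theorem root_eq_two_smul_of_coroot {a j : ι} (h : (2 : ℤ) • P.coroot j = P.coroot a) :
    P.root j = (2 : ℤ) • P.root a := by
  have h1 : pol P.flip (P.coroot a) = bform P.flip (P.coroot a) (P.coroot a) • P.root a :=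
    pol_root (P := P.flip) a
  have h2 : pol P.flip (P.coroot j) = bform P.flip (P.coroot j) (P.coroot j) • P.root j :=
    pol_root (P := P.flip) j
  rw [← h, map_zsmul, h2] at h1
  simp only [map_zsmul, LinearMap.smul_apply, smul_eq_mul] at h1
  have hpos : 0 < bform P.flip (P.coroot j) (P.coroot j) := bform_root_pos P.flip j
  refine smul_right_cancel P (a := 2 * bform P.flip (P.coroot j) (P.coroot j)) (by omega) ?_
  rw [← smul_smul, h1, smul_smul]
  congr 1
  ring

end RootSysLib
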