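/-
The simple system of the dual root datum.
-/
import Groth.Agent.RootSys.Lengths
import Groth.Agent.S5446

set_option autoImplicit false

namespace RootSysLib

open RootPairing RootBasicLib

variable {ι M N : Type*} [AddCommGroup M] [AddCommGroup N] {P : RootPairing ι ℤ M N} [Finite ι]

variable (P) in
/-- Indivisible coroots attached to a set of roots. -/
def dualSimple (Δ : Set ι) : Set ι :=
  {j | ∃ i ∈ Δ, (j = i ∧ RootD.IsIndiv P.flip i) ∨ (2 : ℤ) • P.coroot j = P.coroot i}

theorem indiv_of_two {a j : ι} (h : (2 : ℤ) • P.coroot j = P.coroot a) : RootD.IsIndiv P.flip j := by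
  intro k hk
  change (2 : ℤ) • P.coroot k = P.coroot j at hk
  rw [← hk, smul_smul] at h
  rcases eq_one_or_two_of_eq_smul (P := P.flip) (c := 4) (by norm_num) (show P.coroot a = (4 : ℤ) • P.coroot k by
    rw [← h]; norm_num) with h' | h' <;> omega

variable {Δ : Set ι}

theorem dualSimple_spec {j : ι} (hj : j ∈ dualSimple P Δ) :
    ∃ a ∈ Δ, ∃ e : ℤ, 0 < e ∧ P.root j = e • P.root a ∧ P.coroot a = e • P.coroot j ∧
      (RootD.IsIndiv P.flip a → e = 1) ∧ (e = 1 → j = a) ∧ (e = 1 ∨ e = 2) := by
  obtain ⟨a, ha, ⟨rfl, hi⟩ | h⟩ := hj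
  · exact ⟨j, ha, 1, one_pos, (one_smul _ _).symm, (one_smul _ _).symm, fun _ => rfl, fun _ => rfl,
      Or.inl rfl⟩
  · exact ⟨a, ha, 2, two_pos, root_eq_two_smul_of_coroot h, h.symm, fun hi => absurd h (hi j),
      fun he => absurd he (by norm_num), Or.inr rfl⟩

theorem exists_dualSimple {a : ι} (ha : a ∈ Δ) :
    ∃ j ∈ dualSimple P Δ, ∃ e : ℤ, 0 < e ∧ P.coroot a = e • P.coroot j ∧
      (RootD.IsIndiv P.flip a → e = 1) ∧ (e = 1 ∨ e = 2) := by
  by_cases hi : RootD.IsIndiv P.flip a
  · exact ⟨a, ⟨a, ha, Or.inl ⟨rfl, hi⟩⟩, 1, one_pos, (one_smul _ _).symm, fun _ => rfl, Or.inl rfl⟩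
  · simp only [RootD.IsIndiv, not_forall, not_not] at hi
    obtain ⟨j, hj⟩ := hi
    exact ⟨j, ⟨a, ha, Or.inr hj⟩, 2, two_pos, hj.symm, fun hi => absurd hj (hi j), Or.inr rfl⟩

variable (hΔ : RootD.IsSimpleSys P Δ)
include hΔ

theorem root_linIndep_dualSimple : LinearIndepOn ℤ P.root (dualSimple P Δ) := by
  classical
  have : Finite (dualSimple P Δ) := inferInstance
  let _ := Fintype.ofFinite (dualSimple P Δ)
  choose a ha e he hroot hco _ hone h12 using fun j : dualSimple P Δ => dualSimple_spec j.2
  have hinj : Function.Injective fun j => (⟨a j, ha j⟩ : Δ) := by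
    intro j k hjk
    have hjk' : a j = a k := congrArg Subtype.val hjk
    have h1 := hco j
    rw [hjk', hco k] at h1
    rcases h12 j with hj | hj <;> rcases h12 k with hk | hk <;> rw [hj, hk] at h1
    · exact Subtype.ext (P.coroot.injective (by simpa using h1.symm))
    · have hja := hone j hj
      exact absurd (show (2 : ℤ) • P.coroot k = P.coroot j by simpa using h1)
        (by
          rcases j.2 with ⟨i, -, ⟨hji, hi⟩ | h2⟩
          · rw [hji]; exact fun h => hi k h
          · exact fun h => indiv_of_two h2 k h)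
    · exact absurd (show (2 : ℤ) • P.coroot j = P.coroot k by simpa using h1.symm)
        (by
          rcases k.2 with ⟨i, -, ⟨hki, hi⟩ | h2⟩
          · rw [hki]; exact fun h => hi j h
          · exact fun h => indiv_of_two h2 j h)
    · exact Subtype.ext (P.coroot.injective (smul_right_cancel P.flip two_ne_zero h1.symm))
  have hli := LinearIndependent.comp hΔ.linInd (fun j => (⟨a j, ha j⟩ : Δ)) hinj
  refine Fintype.linearIndependent_iff.2 fun c hc j => ?_
  have h0 : ∑ j, (c j * e j) • P.root (a j) = 0 := by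
    rw [← hc]
    exact Finset.sum_congr rfl fun j _ => by rw [mul_smul, ← hroot]
  have := Fintype.linearIndependent_iff.1 hli _ h0 j
  exact (mul_eq_zero.1 this).resolve_right (he j).ne'

theorem isSimpleSys_dual : RootD.IsSimpleSys P.flip (dualSimple P Δ) := by
  classical
  refine Groth.Agent.S5446.result P.flip _ ?_ ?_ ?_
  · rintro j ⟨a, ha, ⟨rfl, hi⟩ | h⟩
    · exact hi
    · exact indiv_of_two h
  · have : Finite (dualSimple P Δ) := inferInstance
    let _ := Fintype.ofFinite (dualSimple P Δ)
    refine Fintype.linearIndependent_iff.2 fun c hc j => ?_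
    have h1 : ∑ j, (c j * bform P.flip (P.coroot j) (P.coroot j)) • P.root (j : ι) = 0 := by
      have h2 := congrArg (pol P.flip) hc
      rw [map_sum, map_zero] at h2
      refine Eq.trans (Finset.sum_congr rfl fun j _ => ?_) h2
      rw [map_zsmul, pol_root, mul_smul]
      rfl
    have := Fintype.linearIndependent_iff.1 (root_linIndep_dualSimple hΔ) _ h1 j
    exact (mul_eq_zero.1 this).resolve_right (bform_root_pos P.flip j).ne'
  · have key : ∀ k, k ∈ RootD.posOf P Δ → ∃ n : ℕ, 0 < n ∧
        n • P.coroot k ∈ RootD.natSpan P.flip (dualSimple P Δ) := by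
      intro k hk
      obtain ⟨c, hc, hc0, he⟩ := exists_finsupp_of_mem_natSpan hk
      have hpos := bform_root_pos P k
      refine ⟨(bform P (P.root k) (P.root k)).toNat, by omega, ?_⟩
      rw [← natCast_zsmul, Int.toNat_of_nonneg hpos.le, ← pol_root, ← he, pol_lc,
        Finsupp.linearCombination_apply]
      refine sum_mem fun a ha => ?_
      obtain ⟨j, hj, e, he, hje, -, -⟩ := exists_dualSimple (P := P) (hc ha)
      dsimp only
      rw [hje, smul_smul, smul_smul, ← Int.toNat_of_nonneg (a := c a * _ * e)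
        (mul_nonneg (mul_nonneg (hc0 a) (bform_root_pos P a).le) he.le), natCast_zsmul]
      exact nsmul_mem (root_mem_natSpan (P := P.flip) hj) _
    intro k
    rcases (isPosSys_posOf hΔ).cover k with h | h
    · obtain ⟨n, hn, h'⟩ := key k h
      exact ⟨n, hn, Or.inl h'⟩
    · obtain ⟨n, hn, h'⟩ := key _ h
      refine ⟨n, hn, Or.inr ?_⟩
      rw [← root_neg (P := P.flip)]
      exact h'

theorem length_dvd {k i : ι} (hi : i ∈ Δ) {c : ι →₀ ℤ} (hc : ↑c.support ⊆ Δ)
    (hck : Finsupp.linearCombination ℤ P.root c = P.root k) :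
    bform P (P.root k) (P.root k) ∣ 2 * c i * bform P (P.root i) (P.root i) ∧
      (RootD.IsIndiv P.flip i →
        bform P (P.root k) (P.root k) ∣ c i * bform P (P.root i) (P.root i)) := by
  classical
  choose! j hj e he hje hone h12 using fun a (ha : a ∈ Δ) => exists_dualSimple (P := P) ha
  have hD := isSimpleSys_dual hΔ
  obtain ⟨d, hd, hdk⟩ := exists_repr hD (x := P.coroot k) (Submodule.subset_span (Set.mem_range_self k))
  have hinj : ∀ a ∈ Δ, ∀ b ∈ Δ, j a = j b → a = b := by
    intro a ha b hb hab
    have h1 := hje a ha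
    have h2 := hje b hb
    rw [hab] at h1
    rcases h12 a ha with x | x <;> rcases h12 b hb with y | y <;> rw [x] at h1 <;> rw [y] at h2
    · exact P.coroot.injective (h1.trans h2.symm)
    · exfalso
      have hab2 : (2 : ℤ) • P.coroot a = P.coroot b := by rw [h2, h1, one_smul]
      have hr := root_eq_two_smul_of_coroot hab2
      exact isIndiv_of_mem hΔ ha b hr.symm
    · exfalso
      have hab2 : (2 : ℤ) • P.coroot b = P.coroot a := by rw [h2, h1, one_smul]
      have hr := root_eq_two_smul_of_coroot hab2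
      exact isIndiv_of_mem hΔ hb a hr.symm
    · exact P.coroot.injective (h1.trans h2.symm)
  let F : ι →₀ ℤ := ∑ a ∈ c.support, Finsupp.single (j a) (c a * bform P (P.root a) (P.root a) * e a)
  have hF : bform P (P.root k) (P.root k) • d = F := by
    refine coeff_eq_of_linInd hD.linInd (fun x hx => hd (Finsupp.support_smul hx)) ?_ ?_
    · intro x hx
      obtain ⟨a, ha, hxa⟩ := Finset.mem_biUnion.1 (Finsupp.support_finsetSum hx)
      rw [Finset.mem_singleton.1 (Finsupp.support_single_subset hxa)]
      exact hj a (hc ha)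
    · rw [map_zsmul, hdk, ← pol_root, ← hck, pol_lc, Finsupp.linearCombination_apply, map_sum]
      refine Finset.sum_congr rfl fun a ha => ?_
      rw [Finsupp.linearCombination_single]
      dsimp only
      rw [hje a (hc ha), smul_smul, smul_smul]
      rfl
  have hFi : F (j i) = c i * bform P (P.root i) (P.root i) * e i := by
    simp only [F, Finsupp.finsetSum_apply]
    rw [Finset.sum_eq_single i]
    · rw [Finsupp.single_eq_same]
    · intro a ha hai
      exact Finsupp.single_eq_of_ne fun h => hai (hinj a (hc ha) i hi h.symm)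
    · intro h
      rw [Finsupp.notMem_support_iff.1 h]
      simp
  have key : bform P (P.root k) (P.root k) ∣ c i * bform P (P.root i) (P.root i) * e i :=
    ⟨d (j i), by rw [← hFi, ← hF, Finsupp.smul_apply, smul_eq_mul]⟩
  refine ⟨?_, fun h => by simpa [hone i hi h] using key⟩
  rw [mul_assoc, mul_comm (2 : ℤ)]
  rcases h12 i hi with x | x
  · rw [x, mul_one] at key
    exact key.mul_right 2
  · rwa [x] at key

end RootSysLib
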