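/-
p-morphisms of reduced root data.
-/
import Groth.Agent.RootSys.Orth
import Groth.Agent.S5446

set_option autoImplicit false

namespace RootSysLib

open RootPairing RootBasicLib

variable {ι M N : Type*} [AddCommGroup M] [AddCommGroup N] {P : RootPairing ι ℤ M N}

theorem isIndiv_of_reduced [P.IsReduced] (i : ι) : RootD.IsIndiv P i := by
  intro j hj
  have hdep : ¬ LinearIndependent ℤ ![P.root i, P.root j] := fun h => by
    have := (LinearIndependent.pair_iff.1 h 1 (-2) (by rw [one_smul, neg_smul, hj, add_neg_cancel])).1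
    omega
  rcases IsReduced.eq_or_eq_neg (P := P) i j hdep with e | e
  · rw [e] at hj
    exact absurd (smul_left_inj P (P.ne_zero j) (hj.trans (one_smul ℤ _).symm)) (by norm_num)
  · rw [e] at hj
    exact absurd (smul_left_inj P (P.ne_zero j) (hj.trans (neg_one_smul ℤ _).symm)) (by norm_num)

theorem eq_of_smul_idx_eq [Finite ι] {g h : P.Aut} (hg : g ∈ P.weylGroup) (hh : h ∈ P.weylGroup)
    (e : ∀ i : ι, g • i = h • i) : g = h := by
  obtain ⟨Δ, hΔ⟩ := exists_isSimpleSys P
  rw [eq_comm, ← inv_mul_eq_one]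
  refine eq_one_of_preserves hΔ (mul_mem (inv_mem hh) hg) fun a ha => ?_
  rw [mul_smul, e a, inv_smul_smul]
  exact self_subset_posOf Δ ha

variable {ι' M' N' : Type*} [AddCommGroup M'] [AddCommGroup N'] {P' : RootPairing ι' ℤ M' N'}

variable (P P') in
/-- The data of a morphism of root data up to positive factors. -/
structure PMorph where
  f : M' →ₗ[ℤ] M
  g : N →ₗ[ℤ] N'
  hfg : ∀ (m' : M') (n : N), P.toLinearMap (f m') n = P'.toLinearMap m' (g n)
  u : ι ≃ ι'
  q : ι → ℕ
  qpos : ∀ i, 0 < q i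
  hroot : ∀ i : ι, f (P'.root (u i)) = (q i : ℤ) • P.root i
  hcoroot : ∀ i : ι, g (P.coroot i) = (q i : ℤ) • P'.coroot (u i)

variable (F : PMorph P P')

theorem PMorph.pairing_eq (a b : ι) :
    (F.q a : ℤ) * P.pairing a b = (F.q b : ℤ) * P'.pairing (F.u a) (F.u b) := by
  have h := F.hfg (P'.root (F.u a)) (P.coroot b)
  rw [F.hroot, F.hcoroot, map_zsmul, map_zsmul, LinearMap.smul_apply, smul_eq_mul, smul_eq_mul,
    P.root_coroot_eq_pairing, P'.root_coroot_eq_pairing] at h
  exact h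

theorem PMorph.eq_zero [Finite ι'] {y : M'} (hy : y ∈ Submodule.span ℤ (Set.range P'.root))
    (h : F.f y = 0) : y = 0 := by
  refine eq_zero_of_coroot'_eq_zero hy fun i' => ?_
  obtain ⟨b, rfl⟩ := F.u.surjective i'
  have h1 := F.hfg y (P.coroot b)
  rw [h, F.hcoroot, map_zero, LinearMap.zero_apply, map_zsmul, smul_eq_mul] at h1
  exact (mul_eq_zero.1 h1.symm).resolve_left (by have := F.qpos b; omega)

variable [P.IsReduced]

theorem PMorph.key (i j : ι) : F.q (P.reflectionPerm i j) = F.q j ∧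
    F.u (P.reflectionPerm i j) = P'.reflectionPerm (F.u i) (F.u j) := by
  obtain ⟨k, hk⟩ := F.u.surjective (P'.reflectionPerm (F.u i) (F.u j))
  set l := P.reflectionPerm i j
  have h1 : (F.q k : ℤ) • P.root k = (F.q j : ℤ) • P.root l := by
    rw [← F.hroot, hk, root_reflectionPerm', map_sub, map_zsmul, F.hroot, F.hroot,
      root_reflectionPerm', smul_sub, smul_smul, smul_smul]
    congr 2
    rw [mul_comm, ← F.pairing_eq, mul_comm]
  have hqk := F.qpos k
  have hqj := F.qpos j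
  have hdep : ¬ LinearIndependent ℤ ![P.root k, P.root l] := fun h => by
    have := (LinearIndependent.pair_iff.1 h (F.q k : ℤ) (-(F.q j : ℤ))
      (by rw [h1, neg_smul, add_neg_cancel])).1
    omega
  rcases IsReduced.eq_or_eq_neg (P := P) k l hdep with e | e
  · rw [e] at h1
    have := smul_left_inj P (P.ne_zero l) h1
    rw [← P.root.injective e]
    exact ⟨by omega, hk⟩
  · rw [e, smul_neg, ← neg_smul] at h1
    have := smul_left_inj P (P.ne_zero l) h1
    omega

theorem PMorph.u_neg (i : ι) : F.u (P.reflectionPerm i i) = P'.reflectionPerm (F.u i) (F.u i) :=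
  (F.key i i).2

theorem PMorph.exists_weyl {w : P.Aut} (hw : w ∈ P.weylGroup) :
    ∃ w' : P'.Aut, w' ∈ P'.weylGroup ∧ ∀ i : ι, F.u (w • i) = w' • F.u i ∧ F.q (w • i) = F.q i := by
  change w ∈ Subgroup.closure _ at hw
  induction hw using Subgroup.closure_induction with
  | mem x hx =>
    obtain ⟨a, rfl⟩ := hx
    refine ⟨Equiv.reflection P' (F.u a), reflection_mem _, fun i => ?_⟩
    rw [reflection_smul_idx, reflection_smul_idx]
    exact ⟨(F.key a i).2, (F.key a i).1⟩
  | one => exact ⟨1, one_mem _, fun i => by simp only [one_smul, and_self]⟩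
  | mul x y _ _ hx hy =>
    obtain ⟨x', hx', hxu⟩ := hx
    obtain ⟨y', hy', hyu⟩ := hy
    exact ⟨x' * y', mul_mem hx' hy', fun i => ⟨by rw [mul_smul, mul_smul, (hxu _).1, (hyu i).1],
      by rw [mul_smul, (hxu _).2, (hyu i).2]⟩⟩
  | inv x _ hx =>
    obtain ⟨x', hx', hxu⟩ := hx
    refine ⟨x'⁻¹, inv_mem hx', fun i => ⟨?_, ?_⟩⟩
    · rw [eq_inv_smul_iff, ← (hxu _).1, smul_inv_smul]
    · rw [← (hxu (x⁻¹ • i)).2, smul_inv_smul]

theorem PMorph.exists_weyl_symm {w' : P'.Aut} (hw : w' ∈ P'.weylGroup) :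
    ∃ w : P.Aut, w ∈ P.weylGroup ∧ ∀ i : ι, F.u (w • i) = w' • F.u i := by
  change w' ∈ Subgroup.closure _ at hw
  induction hw using Subgroup.closure_induction with
  | mem x hx =>
    obtain ⟨a', rfl⟩ := hx
    obtain ⟨a, rfl⟩ := F.u.surjective a'
    refine ⟨Equiv.reflection P a, reflection_mem _, fun i => ?_⟩
    rw [reflection_smul_idx, reflection_smul_idx]
    exact (F.key a i).2
  | one => exact ⟨1, one_mem _, fun i => by simp only [one_smul]⟩
  | mul x y _ _ hx hy =>
    obtain ⟨x', hx', hxu⟩ := hx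
    obtain ⟨y', hy', hyu⟩ := hy
    exact ⟨x' * y', mul_mem hx' hy', fun i => by rw [mul_smul, mul_smul, hxu, hyu]⟩
  | inv x _ hx =>
    obtain ⟨x', hx', hxu⟩ := hx
    refine ⟨x'⁻¹, inv_mem hx', fun i => ?_⟩
    rw [eq_inv_smul_iff, ← hxu, smul_inv_smul]

variable [Finite ι] [Finite ι']

omit [P.IsReduced] in
theorem PMorph.cone_iff (A : Set ι) (k : ι) :
    (∃ n : ℕ, 0 < n ∧ n • P.root k ∈ RootD.natSpan P A) ↔
      ∃ n : ℕ, 0 < n ∧ n • P'.root (F.u k) ∈ RootD.natSpan P' (F.u '' A) := by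
  constructor
  · rintro ⟨n, hn, h⟩
    have key : ∀ x ∈ RootD.natSpan P A, ∃ y ∈ RootD.natSpan P' (F.u '' A), ∃ m : ℕ,
        0 < m ∧ F.f y = m • x := by
      intro x hx
      induction hx using AddSubmonoid.closure_induction with
      | mem x hx =>
        obtain ⟨a, ha, rfl⟩ := hx
        exact ⟨_, root_mem_natSpan ⟨a, ha, rfl⟩, F.q a, F.qpos a, by rw [F.hroot, natCast_zsmul]⟩
      | zero => exact ⟨0, zero_mem _, 1, one_pos, by simp⟩
      | add x₁ x₂ _ _ h₁ h₂ =>
        obtain ⟨y₁, hy₁, m₁, hm₁, e₁⟩ := h₁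
        obtain ⟨y₂, hy₂, m₂, hm₂, e₂⟩ := h₂
        refine ⟨m₂ • y₁ + m₁ • y₂, add_mem (nsmul_mem hy₁ _) (nsmul_mem hy₂ _), m₁ * m₂,
          Nat.mul_pos hm₁ hm₂, ?_⟩
        rw [map_add, map_nsmul, map_nsmul, e₁, e₂, smul_smul, smul_smul, Nat.mul_comm m₂ m₁, smul_add]
    obtain ⟨y, hy, m, hm, e⟩ := key _ h
    refine ⟨m * n, Nat.mul_pos hm hn, ?_⟩
    have hz : (F.q k) • y = (m * n) • P'.root (F.u k) := by
      refine sub_eq_zero.1 (F.eq_zero (sub_mem ?_ ?_) ?_)
      · exact nsmul_mem (natSpan_subset_span_range hy) _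
      · exact nsmul_mem (Submodule.subset_span (Set.mem_range_self _)) _
      · rw [map_sub, map_nsmul, map_nsmul, e, F.hroot, natCast_zsmul, smul_smul, smul_smul, smul_smul,
          sub_eq_zero]
        congr 1
        ring
    rw [← hz]
    exact nsmul_mem hy _
  · rintro ⟨n, hn, h⟩
    have key : ∀ y ∈ RootD.natSpan P' (F.u '' A), F.f y ∈ RootD.natSpan P A := by
      intro y hy
      induction hy using AddSubmonoid.closure_induction with
      | mem y hy =>
        obtain ⟨_, ⟨a, ha, rfl⟩, rfl⟩ := hy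
        rw [F.hroot, natCast_zsmul]
        exact nsmul_mem (root_mem_natSpan ha) _
      | zero => rw [map_zero]; exact zero_mem _
      | add x y _ _ hx hy => rw [map_add]; exact add_mem hx hy
    refine ⟨n * F.q k, Nat.mul_pos hn (F.qpos k), ?_⟩
    have := key _ h
    rwa [map_nsmul, F.hroot, natCast_zsmul, smul_smul] at this

omit [P.IsReduced] [Finite ι] in
theorem PMorph.linIndep_iff (A : Set ι) :
    LinearIndepOn ℤ P.root A ↔ LinearIndepOn ℤ P'.root (F.u '' A) := by
  classical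
  have hcomp : LinearIndepOn ℤ (P'.root ∘ F.u) A ↔ LinearIndepOn ℤ P'.root (F.u '' A) :=
    ⟨fun h => h.image_of_comp, fun h => h.comp_of_image F.u.injective.injOn⟩
  rw [← hcomp]
  constructor <;> intro h <;> rw [linearIndepOn_iff'] at h ⊢ <;> intro s c hs hc a ha
  · have h0 : ∑ x ∈ s, (c x * F.q x) • P.root x = 0 := by
      have := congrArg F.f hc
      rw [map_sum, map_zero] at this
      refine Eq.trans (Finset.sum_congr rfl fun x _ => ?_) this
      rw [map_zsmul, Function.comp_apply, F.hroot, smul_smul]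
    have := h s _ hs h0 a ha
    have hq := F.qpos a
    exact (mul_eq_zero.1 this).resolve_right (by omega)
  · let Q : ι → ℤ := fun x => ∏ y ∈ s.erase x, (F.q y : ℤ)
    have hz : ∑ x ∈ s, (c x * Q x) • (P'.root ∘ F.u) x = 0 := by
      refine F.eq_zero (sum_mem fun x _ => Submodule.smul_mem _ _
        (Submodule.subset_span (Set.mem_range_self _))) ?_
      rw [map_sum, show (0 : M) = (∏ y ∈ s, (F.q y : ℤ)) • ∑ x ∈ s, c x • P.root x by
        rw [hc, smul_zero], Finset.smul_sum]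
      refine Finset.sum_congr rfl fun x hx => ?_
      rw [map_zsmul, Function.comp_apply, F.hroot, smul_smul, smul_smul]
      congr 1
      rw [← Finset.mul_prod_erase s _ hx]
      ring
    have := h s _ hs hz a ha
    exact (mul_eq_zero.1 this).resolve_right
      (Finset.prod_ne_zero_iff.2 fun y _ => by have := F.qpos y; omega)

theorem PMorph.isPosSys_iff (A : Set ι) :
    RootD.IsPosSys P A ↔ RootD.IsPosSys P' (F.u '' A) := by
  have hmem : ∀ i, F.u i ∈ F.u '' A ↔ i ∈ A := fun i => F.u.injective.mem_set_image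
  constructor
  · intro h
    refine ⟨fun i' hi' => ?_, fun i' => ?_, fun k' n hn hk => ?_⟩
    · obtain ⟨i, rfl⟩ := F.u.surjective i'
      rw [← F.u_neg, hmem] at *
      exact h.disjoint hi'
    · obtain ⟨i, rfl⟩ := F.u.surjective i'
      rw [← F.u_neg, hmem, hmem]
      exact h.cover i
    · obtain ⟨k, rfl⟩ := F.u.surjective k'
      obtain ⟨m, hm, hm'⟩ := (F.cone_iff A k).2 ⟨n, hn, hk⟩
      exact (hmem k).2 (h.sat m hm hm')
  · intro h
    refine ⟨fun i hi => ?_, fun i => ?_, fun k n hn hk => ?_⟩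
    · have := h.disjoint ((hmem i).2 hi)
      rwa [← F.u_neg, hmem] at this
    · have := h.cover (F.u i)
      rwa [← F.u_neg, hmem, hmem] at this
    · obtain ⟨m, hm, hm'⟩ := (F.cone_iff A k).1 ⟨n, hn, hk⟩
      exact (hmem k).1 (h.sat m hm hm')

theorem PMorph.isSimpleSys_iff [P'.IsReduced] (A : Set ι) :
    RootD.IsSimpleSys P A ↔ RootD.IsSimpleSys P' (F.u '' A) := by
  constructor
  · intro h
    refine Groth.Agent.S5446.result P' _ (fun i _ => isIndiv_of_reduced i) ((F.linIndep_iff A).1 h.linInd)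
      fun k' => ?_
    obtain ⟨k, rfl⟩ := F.u.surjective k'
    rcases h.mem_or_neg_mem k with hk | hk
    · obtain ⟨n, hn, hn'⟩ := (F.cone_iff A k).1 ⟨1, one_pos, by rwa [one_smul]⟩
      exact ⟨n, hn, Or.inl hn'⟩
    · obtain ⟨n, hn, hn'⟩ := (F.cone_iff A (P.reflectionPerm k k)).1
        ⟨1, one_pos, by rwa [one_smul, root_neg]⟩
      exact ⟨n, hn, Or.inr (by rwa [F.u_neg, root_neg] at hn')⟩
  · intro h
    refine Groth.Agent.S5446.result P _ (fun i _ => isIndiv_of_reduced i) ((F.linIndep_iff A).2 h.linInd)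
      fun k => ?_
    rcases h.mem_or_neg_mem (F.u k) with hk | hk
    · obtain ⟨n, hn, hn'⟩ := (F.cone_iff A k).2 ⟨1, one_pos, by rwa [one_smul]⟩
      exact ⟨n, hn, Or.inl hn'⟩
    · obtain ⟨n, hn, hn'⟩ := (F.cone_iff A (P.reflectionPerm k k)).2
        ⟨1, one_pos, by rwa [one_smul, F.u_neg, root_neg]⟩
      exact ⟨n, hn, Or.inr (by rwa [root_neg] at hn')⟩

theorem PMorph.exists_mulEquiv :
    ∃ ubar : P.weylGroup ≃* P'.weylGroup,
      (∀ i : ι, ubar (RootPairing.weylGroup.ofIdx P i) = RootPairing.weylGroup.ofIdx P' (F.u i)) ∧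
      ∀ (w : P.weylGroup) (i : ι), F.u ((w : P.Aut) • i) = ((ubar w : P'.weylGroup) : P'.Aut) • F.u i := by
  choose fw hfw hfw' using fun w : P.weylGroup => F.exists_weyl w.2
  choose inv hinv hinv' using fun w : P'.weylGroup => F.exists_weyl_symm w.2
  have huniq : ∀ (w' v' : P'.Aut), w' ∈ P'.weylGroup → v' ∈ P'.weylGroup →
      (∀ i, w' • F.u i = v' • F.u i) → w' = v' := fun w' v' hw hv h =>
    eq_of_smul_idx_eq hw hv fun i' => by
      obtain ⟨i, rfl⟩ := F.u.surjective i'
      exact h i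
  let ubar : P.weylGroup ≃* P'.weylGroup :=
    { toFun := fun w => ⟨fw w, hfw w⟩
      invFun := fun w => ⟨inv w, hinv w⟩
      left_inv := fun w => Subtype.ext (eq_of_smul_idx_eq (hinv _) w.2 fun i =>
        F.u.injective (by rw [hinv', (hfw' w i).1]))
      right_inv := fun w => Subtype.ext (huniq _ _ (hfw _) w.2 fun i => by
        rw [← (hfw' _ i).1, hinv'])
      map_mul' := fun v w => Subtype.ext (huniq _ _ (hfw _) (mul_mem (hfw v) (hfw w)) fun i => by
        show fw (v * w) • F.u i = (fw v * fw w) • F.u i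
        rw [← (hfw' (v * w) i).1, mul_smul, ← (hfw' w i).1, ← (hfw' v _).1, ← mul_smul]
        rfl) }
  refine ⟨ubar, fun i => Subtype.ext ?_, fun w i => (hfw' w i).1⟩
  refine huniq _ _ (hfw _) (RootPairing.weylGroup.ofIdx P' (F.u i)).2 fun j => ?_
  show fw _ • F.u j = Equiv.reflection P' (F.u i) • F.u j
  rw [← (hfw' (RootPairing.weylGroup.ofIdx P i) j).1, reflection_smul_idx, ← (F.key i j).2]
  exact congrArg F.u (reflection_smul_idx i j)

end RootSysLib
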