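/-
The Weyl group of a reduced root pairing with a base, over any domain of characteristic zero.
-/
import Groth.Agent.RootBasic.Aut
import Mathlib.LinearAlgebra.RootSystem.Base
import Mathlib.LinearAlgebra.RootSystem.WeylGroup

set_option autoImplicit false

namespace RootSysLib.BaseR

open RootPairing RootBasicLib

variable {ι R M N : Type*} [CommRing R] [AddCommGroup M] [Module R M] [AddCommGroup N] [Module R N]
  {P : RootPairing ι R M N}

theorem aut_ext {u v : P.Aut} (h : ∀ m : M, u • m = v • m) : u = v :=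
  RootPairing.Equiv.weightHom_injective P (LinearEquiv.ext h)

theorem reflection_smul_idx (i j : ι) : Equiv.reflection P i • j = P.reflectionPerm i j := by
  apply P.root.injective
  rw [root_smul_index, Equiv.reflection_smul, P.root_reflectionPerm]

theorem smul_neg_idx (u : P.Aut) (i : ι) :
    u • P.reflectionPerm i i = P.reflectionPerm (u • i) (u • i) := by
  rw [← reflection_smul_idx, ← reflection_smul_idx, ← aut_mul_reflection_mul_inv, mul_smul,
    mul_smul, inv_smul_smul]

theorem reflection_sq (i : ι) : Equiv.reflection P i * Equiv.reflection P i = 1 := by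
  rw [mul_eq_one_iff_eq_inv, RootPairing.Equiv.reflection_inv]

theorem reflection_mem (i : ι) : Equiv.reflection P i ∈ P.weylGroup :=
  Subgroup.subset_closure ⟨i, rfl⟩

theorem exists_word {s : Set ι} {g : P.Aut}
    (hg : g ∈ Subgroup.closure ((fun i : ι => Equiv.reflection P i) '' s)) :
    ∃ l : List ι, (∀ a ∈ l, a ∈ s) ∧ (l.map fun a => Equiv.reflection P a).prod = g := by
  induction hg using Subgroup.closure_induction with
  | mem x hx => obtain ⟨a, ha, rfl⟩ := hx; exact ⟨[a], by simpa using ha, by simp⟩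
  | one => exact ⟨[], by simp, by simp⟩
  | mul x y _ _ hx hy =>
    obtain ⟨l, hl, rfl⟩ := hx
    obtain ⟨m, hm, rfl⟩ := hy
    exact ⟨l ++ m, fun a ha => (List.mem_append.1 ha).elim (hl a) (hm a), by simp⟩
  | inv x _ hx =>
    obtain ⟨l, hl, rfl⟩ := hx
    refine ⟨l.reverse, by simpa using hl, ?_⟩
    rw [List.prod_inv_reverse, List.map_reverse]
    congr 2
    rw [List.map_map]
    exact List.map_congr_left fun a _ => (RootPairing.Equiv.reflection_inv P a).symm

variable [CharZero R] (b : P.Base)

theorem isPos_neg_iff (i : ι) : b.IsPos (P.reflectionPerm i i) ↔ ¬ b.IsPos i :=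
  Base.IsPos.neg_iff_not b i

theorem neg_simple {a : ι} (ha : a ∈ b.support) : ¬ b.IsPos (P.reflectionPerm a a) := fun h =>
  (isPos_neg_iff b a).1 h (Base.isPos_of_mem_support ha)

variable [IsDomain R] [Finite ι] [P.IsCrystallographic] [P.IsReduced]

theorem pos_reflect_iff {a i : ι} (ha : a ∈ b.support) (hi : b.IsPos i) :
    b.IsPos (P.reflectionPerm a i) ↔ i ≠ a :=
  ⟨fun h e => neg_simple b ha (e ▸ h), fun h => hi.reflectionPerm ha h⟩

theorem exists_conj (i : ι) :
    ∃ g ∈ Subgroup.closure ((fun i : ι => Equiv.reflection P i) '' (b.support : Set ι)),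
      ∃ j ∈ b.support, g • j = i := by
  refine b.induction_reflect i (p := fun i => ∃ g ∈ Subgroup.closure
    ((fun i : ι => Equiv.reflection P i) '' (b.support : Set ι)), ∃ j ∈ b.support, g • j = i)
    ?_ (fun a ha => ⟨1, one_mem _, a, ha, one_smul _ _⟩) ?_
  · rintro i ⟨g, hg, j, hj, rfl⟩
    refine ⟨g * Equiv.reflection P j, mul_mem hg (Subgroup.subset_closure ⟨j, hj, rfl⟩), j, hj, ?_⟩
    rw [mul_smul, reflection_smul_idx, smul_neg_idx]
  · rintro i a ⟨g, hg, j, hj, rfl⟩ ha
    refine ⟨Equiv.reflection P a * g, mul_mem (Subgroup.subset_closure ⟨a, ha, rfl⟩) hg, j, hj, ?_⟩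
    rw [mul_smul, reflection_smul_idx]

theorem closure_eq :
    Subgroup.closure ((fun i : ι => Equiv.reflection P i) '' (b.support : Set ι)) = P.weylGroup := by
  refine le_antisymm ((Subgroup.closure_le _).2 ?_) ((Subgroup.closure_le _).2 ?_)
  · rintro _ ⟨i, -, rfl⟩
    exact reflection_mem i
  · rintro _ ⟨i, rfl⟩
    obtain ⟨g, hg, j, hj, rfl⟩ := exists_conj b i
    show Equiv.reflection P (g • j) ∈ Subgroup.closure _
    rw [← aut_mul_reflection_mul_inv]
    exact mul_mem (mul_mem hg (Subgroup.subset_closure ⟨j, hj, rfl⟩)) (inv_mem hg)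

theorem exchange (l : List ι) (hl : ∀ x ∈ l, x ∈ b.support) {a : ι} (ha : a ∈ b.support)
    (h : ¬ b.IsPos ((l.map fun x => Equiv.reflection P x).prod • a)) :
    ∃ l' : List ι, (∀ x ∈ l', x ∈ b.support) ∧ l'.length + 1 = l.length ∧
      (l'.map fun x => Equiv.reflection P x).prod =
        (l.map fun x => Equiv.reflection P x).prod * Equiv.reflection P a := by
  induction l with
  | nil => simp [Base.isPos_of_mem_support ha] at h
  | cons c t ih =>
    simp only [List.map_cons, List.prod_cons, mul_smul] at h ⊢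
    have hc := hl c (by simp)
    have ht : ∀ x ∈ t, x ∈ b.support := fun x hx => hl x (by simp [hx])
    set u := (t.map fun x => Equiv.reflection P x).prod
    by_cases hu : b.IsPos (u • a)
    · rw [reflection_smul_idx, pos_reflect_iff b hc hu, not_not] at h
      refine ⟨t, ht, by simp, ?_⟩
      have hconj := aut_mul_reflection_mul_inv u a
      rw [h, mul_inv_eq_iff_eq_mul] at hconj
      rw [mul_assoc, hconj, ← mul_assoc, reflection_sq, one_mul]
    · obtain ⟨t', ht', hlen, hprod⟩ := ih ht hu
      refine ⟨c :: t', fun x hx => ?_, by simp [hlen], by simp [hprod, mul_assoc]⟩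
      rcases List.mem_cons.1 hx with rfl | hx
      · exact hc
      · exact ht' x hx

theorem eq_one_of_preserves {g : P.Aut} (hg : g ∈ P.weylGroup)
    (h : ∀ a ∈ b.support, b.IsPos (g • a)) : g = 1 := by
  classical
  rw [← closure_eq b] at hg
  let p : ℕ → Prop := fun n => ∃ l : List ι, (∀ a ∈ l, a ∈ b.support) ∧ l.length = n ∧
    (l.map fun a => Equiv.reflection P a).prod = g
  have hp : ∃ n, p n := by
    obtain ⟨l, hl, hlg⟩ := exists_word hg
    exact ⟨_, l, hl, rfl, hlg⟩
  obtain ⟨l, hl, hlen, hlg⟩ := Nat.find_spec hp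
  rcases List.eq_nil_or_concat l with rfl | ⟨t, a, rfl⟩
  · simpa using hlg.symm
  exfalso
  simp only [List.concat_eq_append, List.mem_append, List.mem_singleton, List.map_append,
    List.map_cons, List.map_nil, List.prod_append, List.prod_cons, List.prod_nil, mul_one,
    List.length_append, List.length_singleton] at hl hlen hlg
  have ha : a ∈ b.support := hl a (Or.inr rfl)
  have h1 := h a ha
  rw [← hlg, mul_smul, reflection_smul_idx, smul_neg_idx, isPos_neg_iff] at h1
  obtain ⟨l', hl', hlen', hp'⟩ := exchange b t (fun x hx => hl x (Or.inl hx)) ha h1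
  have := Nat.find_min' hp ⟨l', hl', rfl, hp'.trans hlg⟩
  omega

theorem exists_pos_iff (b' : P.Base) :
    ∃ g ∈ P.weylGroup, ∀ i, b.IsPos i → b'.IsPos (g • i) := by
  suffices H : ∀ n, ∀ g ∈ P.weylGroup, {i | b.IsPos i ∧ ¬ b'.IsPos (g • i)}.ncard = n →
      ∃ g ∈ P.weylGroup, ∀ i, b.IsPos i → b'.IsPos (g • i) from H _ 1 (one_mem _) rfl
  intro n
  induction n using Nat.strong_induction_on with
  | _ n ih =>
    intro g hg hn
    by_cases hall : ∀ a ∈ b.support, b'.IsPos (g • a)
    · refine ⟨g, hg, fun i hi => ?_⟩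
      refine hi.induction_on_add hall fun i j k he h1 hj => h1.add (hall j hj) ?_
      rw [root_smul_index, root_smul_index, root_smul_index, he, smul_add]
    push Not at hall
    obtain ⟨a, ha, hga⟩ := hall
    refine ih _ ?_ (g * Equiv.reflection P a) (mul_mem hg (reflection_mem a)) rfl
    rw [← hn]
    refine lt_of_le_of_lt ?_ (Set.ncard_sdiff_singleton_lt_of_mem (a := a)
      ⟨Base.isPos_of_mem_support ha, hga⟩ (Set.toFinite _))
    refine Set.ncard_le_ncard_of_injOn (fun i => P.reflectionPerm a i) ?_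
      (fun x _ y _ e => (P.reflectionPerm a).injective e) (Set.toFinite _)
    rintro i ⟨hi, hgi⟩
    rw [mul_smul, reflection_smul_idx] at hgi
    have hia : i ≠ a := by
      rintro rfl
      rw [smul_neg_idx, isPos_neg_iff, not_not] at hgi
      exact hga hgi
    refine ⟨⟨hi.reflectionPerm ha hia, hgi⟩, fun e : P.reflectionPerm a i = a => ?_⟩
    have hi' : i = P.reflectionPerm a a := by
      apply (P.reflectionPerm a).injective
      rw [e, P.reflectionPerm_self]
    exact neg_simple b ha (hi' ▸ hi)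

theorem mem_support_iff {i : ι} : i ∈ b.support ↔
    b.IsPos i ∧ ¬ ∃ j k, b.IsPos j ∧ b.IsPos k ∧ P.root i = P.root j + P.root k := by
  refine ⟨fun hi => ⟨Base.isPos_of_mem_support hi, ?_⟩, fun ⟨hi, hn⟩ => ?_⟩
  · rintro ⟨j, k, hj, hk, he⟩
    have := b.height_add he
    rw [Base.height_one_of_mem_support hi] at this
    rw [Base.isPos_iff] at hj hk
    omega
  · by_contra hs
    obtain ⟨a, ha, hp⟩ := hi.exists_mem_support_pos_pairingIn
    rw [P.zero_lt_pairingIn_iff'] at hp
    obtain ⟨k, hk⟩ := P.root_sub_root_mem_of_pairingIn_pos hp fun e => hs (e ▸ ha)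
    exact hn ⟨a, k, Base.isPos_of_mem_support ha, hi.sub ha hk, by rw [hk]; abel⟩

theorem existsUnique_image (b' : P.Base) :
    ∃! g : P.weylGroup,
      (fun i : ι => (g : P.Aut) • i) '' (b.support : Set ι) = (b'.support : Set ι) := by
  obtain ⟨g, hg, h⟩ := exists_pos_iff b b'
  have hiff : ∀ i, b'.IsPos (g • i) ↔ b.IsPos i := fun i =>
    ⟨fun hi => by_contra fun hn => by
      have := h _ ((isPos_neg_iff b i).2 hn)
      rw [smul_neg_idx, isPos_neg_iff] at this
      exact this hi, h i⟩
  have hsupp : ∀ i, g • i ∈ b'.support ↔ i ∈ b.support := by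
    intro i
    rw [mem_support_iff b', mem_support_iff b, hiff]
    refine and_congr Iff.rfl (not_congr ⟨?_, ?_⟩)
    · rintro ⟨j, k, hj, hk, he⟩
      refine ⟨g⁻¹ • j, g⁻¹ • k, (hiff _).1 (by rwa [smul_inv_smul]),
        (hiff _).1 (by rwa [smul_inv_smul]), ?_⟩
      rw [root_smul_index, root_smul_index, ← smul_add, ← he, root_smul_index, inv_smul_smul]
    · rintro ⟨j, k, hj, hk, he⟩
      exact ⟨g • j, g • k, h j hj, h k hk, by
        rw [root_smul_index, root_smul_index, root_smul_index, he, smul_add]⟩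
  have himg : (fun i : ι => g • i) '' (b.support : Set ι) = (b'.support : Set ι) := by
    refine Set.Subset.antisymm ?_ fun x hx => ?_
    · rintro _ ⟨i, hi, rfl⟩
      exact (hsupp i).2 hi
    · exact ⟨g⁻¹ • x, (hsupp _).1 (by rwa [smul_inv_smul]), smul_inv_smul g x⟩
  refine ⟨⟨g, hg⟩, himg, fun w hw => Subtype.ext ?_⟩
  show (w : P.Aut) = g
  rw [eq_comm, ← inv_mul_eq_one]
  refine eq_one_of_preserves b (mul_mem (inv_mem hg) w.2) fun a ha => (hiff _).1 ?_
  rw [← mul_smul, mul_inv_cancel_left]
  exact Base.isPos_of_mem_support (hw.subset ⟨a, ha, rfl⟩)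

end RootSysLib.BaseR
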