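/-
The sum of the positive coroots.
-/
import Groth.Agent.RootSys.Core
import Groth.Agent.RootSys.BaseR

set_option autoImplicit false

namespace RootSysLib

open RootPairing RootBasicLib

variable {ι M N : Type*} [AddCommGroup M] [AddCommGroup N] {P : RootPairing ι ℤ M N}

open Classical in
theorem two_mul_height [Fintype ι] [P.IsReduced] (b : P.Base) (i : ι) :
    2 * b.height i = ∑ j, if b.IsPos j then P.pairing i j else 0 := by
  classical
  let S : M →ₗ[ℤ] ℤ := ∑ j, if b.IsPos j then P.coroot' j else 0
  have hS : ∀ x, S x = ∑ j, if b.IsPos j then P.coroot' j x else 0 := fun x => by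
    simp only [S, LinearMap.coe_sum, Finset.sum_apply]
    exact Finset.sum_congr rfl fun j _ => by split <;> rfl
  have hsimple : ∀ a ∈ b.support, S (P.root a) = 2 := by
    intro a ha
    rw [hS]
    simp only [P.root_coroot'_eq_pairing]
    have hap := Base.isPos_of_mem_support ha
    rw [← Finset.add_sum_erase _ _ (Finset.mem_univ a), if_pos hap, P.pairing_same]
    suffices h : ∑ j ∈ Finset.univ.erase a, (if b.IsPos j then P.pairing a j else 0) = 0 by
      rw [h, add_zero]
    have hflip : ∀ j, P.pairing a (P.reflectionPerm a j) = -P.pairing a j := fun j => by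
      rw [P.pairing_reflectionPerm]
      have h := root_neg (P := P) a
      rw [← P.root_coroot'_eq_pairing, h, map_neg, P.root_coroot'_eq_pairing]
    have hne : P.reflectionPerm a a ≠ a := fun e => BaseR.neg_simple b ha (e.symm ▸ hap)
    rw [← Finset.add_sum_erase _ _
      (Finset.mem_erase.2 ⟨hne, Finset.mem_univ (P.reflectionPerm a a)⟩),
      if_neg (BaseR.neg_simple b ha), zero_add]
    refine Finset.sum_involution (fun j _ => P.reflectionPerm a j) ?_ ?_ ?_ ?_
    · intro j hj
      simp only [Finset.mem_erase, Finset.mem_univ, and_true] at hj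
      have hiff : b.IsPos (P.reflectionPerm a j) ↔ b.IsPos j := by
        refine ⟨fun h => ?_, fun h => h.reflectionPerm ha hj.2⟩
        have := h.reflectionPerm ha fun e => hj.1 (by
          apply (P.reflectionPerm a).injective
          rw [e, P.reflectionPerm_self])
        rwa [P.reflectionPerm_self] at this
      simp only [hiff, hflip]
      split <;> simp
    · intro j _ hz he
      have := hflip j
      rw [he] at this
      apply hz
      split
      · omega
      · rfl
    · intro j hj
      simp only [Finset.mem_erase, Finset.mem_univ, and_true] at hj ⊢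
      refine ⟨fun e => hj.2 ((P.reflectionPerm a).injective e), fun e => hj.1 ?_⟩
      apply (P.reflectionPerm a).injective
      rw [e, P.reflectionPerm_self]
    · intro j _
      exact P.reflectionPerm_self a j
  obtain ⟨f, -, -, hf⟩ := b.exists_root_eq_sum_int i
  have h1 : S (P.root i) = ∑ j, if b.IsPos j then P.pairing i j else 0 := by
    rw [hS]
    simp only [P.root_coroot'_eq_pairing]
  rw [← h1, Base.height_eq_sum hf, hf, map_sum, Finset.mul_sum]
  refine Finset.sum_congr rfl fun a ha => ?_
  rw [map_zsmul, hsimple a ha, smul_eq_mul, mul_comm]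

theorem coroot'_nonneg_of_dominant [Finite ι] (b : P.Base) {i : ι} (hi : b.IsPos i) {w : M}
    (hw : ∀ a ∈ b.support, 0 ≤ P.coroot' a w) : 0 ≤ P.coroot' i w := by
  obtain ⟨f, -, hsign, hf⟩ := b.exists_root_eq_sum_int i
  have hpos : ∀ a, 0 ≤ f a := by
    rcases hsign with h | h
    · exact h.le
    · exfalso
      rw [Base.isPos_iff, Base.height_eq_sum hf] at hi
      exact (Finset.sum_nonpos fun a _ => h.le a).not_gt hi
  have h := two_bform_apply_root P w i
  have h0 : 0 ≤ 2 * bform P w (P.root i) := by
    rw [hf, map_sum, Finset.mul_sum]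
    refine Finset.sum_nonneg fun a ha => ?_
    rw [map_zsmul, smul_eq_mul, mul_left_comm, two_bform_apply_root]
    exact mul_nonneg (hpos a) (mul_nonneg (bform_root_pos P a).le (hw a ha))
  rw [h] at h0
  exact nonneg_of_mul_nonneg_right h0 (bform_root_pos P i)

end RootSysLib
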