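/-
The root datum over `ℤ` on the coroot lattice of a crystallographic root pairing.
-/
import Groth.Agent.RootSys.Weyl
import Groth.Agent.RootSys.Facts
import Mathlib.LinearAlgebra.RootSystem.Reduced
import Mathlib.LinearAlgebra.RootSystem.Finite.Lemmas

set_option autoImplicit false

namespace RootSysLib.LatticeZ

open RootPairing

variable {ι R M N : Type*} [CommRing R] [CharZero R] [IsDomain R] [AddCommGroup M] [Module R M]
  [AddCommGroup N] [Module R N] (P : RootPairing ι R M N)

/-- The lattice generated by the coroots. -/
abbrev lattice : Submodule ℤ N := Submodule.span ℤ (Set.range P.coroot)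

omit [CharZero R] [IsDomain R] in
theorem root'_mem_range [P.IsCrystallographic] (i : ι) (x : lattice P) :
    P.root' i (x : N) ∈ LinearMap.range (Algebra.linearMap ℤ R) := by
  obtain ⟨x, hx⟩ := x
  induction hx using Submodule.span_induction with
  | mem x hx =>
    obtain ⟨j, rfl⟩ := hx
    exact ⟨P.pairingIn ℤ i j, by rw [Algebra.linearMap_apply, P.algebraMap_pairingIn, P.root'_coroot_eq_pairing]⟩
  | zero => rw [map_zero]; exact zero_mem _
  | add a b _ _ ha hb => rw [map_add]; exact add_mem ha hb
  | smul n a _ ha => rw [map_zsmul]; exact Submodule.smul_mem _ n ha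

/-- The integer valued functional of a root on the coroot lattice. -/
noncomputable def rootZ [P.IsCrystallographic] (i : ι) : lattice P →ₗ[ℤ] ℤ :=
  (LinearEquiv.ofInjective (Algebra.linearMap ℤ R) Int.cast_injective).symm.toLinearMap ∘ₗ
    LinearMap.codRestrict (LinearMap.range (Algebra.linearMap ℤ R))
      (((P.root' i).restrictScalars ℤ).comp (lattice P).subtype) (root'_mem_range P i)

theorem rootZ_spec [P.IsCrystallographic] (i : ι) (x : lattice P) :
    ((rootZ P i x : ℤ) : R) = P.root' i (x : N) := by
  have h := congrArg Subtype.val ((LinearEquiv.ofInjective (Algebra.linearMap ℤ R)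
    Int.cast_injective).apply_symm_apply ⟨_, root'_mem_range P i x⟩)
  rw [LinearEquiv.ofInjective_apply, Algebra.linearMap_apply, eq_intCast] at h
  exact h

variable [Finite ι]

include P in
theorem torsionFree_int : Module.IsTorsionFree ℤ N := by
  refine Module.IsTorsionFree.mk fun n hn => ?_
  intro x y hxy
  have hn0 : n ≠ 0 := hn.ne_zero
  change n • x = n • y at hxy
  apply P.flip.toPerfPair.injective
  refine LinearMap.ext fun m => ?_
  have h := congrArg (fun z => P.flip.toPerfPair z m) hxy
  simp only [map_zsmul, LinearMap.smul_apply, zsmul_eq_mul] at h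
  exact mul_left_cancel₀ (Int.cast_ne_zero.2 hn0) h

variable [P.IsCrystallographic]

theorem exists_lattice_pairing :
    ∃ Q : RootPairing ι ℤ (lattice P) (Module.Dual ℤ (lattice P)),
      (∀ i, ((Q.root i : lattice P) : N) = P.coroot i) ∧
      (∀ i j, Q.reflectionPerm i j = P.reflectionPerm i j) ∧
      ∀ i j, Q.pairing i j = P.pairingIn ℤ j i := by
  have := torsionFree_int P
  have : Module.Finite ℤ (lattice P) := Module.Finite.span_of_finite ℤ (Set.finite_range _)
  have : Module.Free ℤ (lattice P) := Module.free_of_finite_type_torsion_free'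
  let rt : ι ↪ lattice P := ⟨fun i => ⟨P.coroot i, Submodule.subset_span (Set.mem_range_self i)⟩,
    fun i j e => P.coroot.injective (congrArg Subtype.val e)⟩
  have hval : ∀ i j, rootZ P i (rt j) = P.pairingIn ℤ i j := fun i j => by
    apply Int.cast_injective (α := R)
    rw [rootZ_spec]
    show P.root' i (P.coroot j) = _
    rw [P.root'_coroot_eq_pairing, ← P.algebraMap_pairingIn ℤ, eq_intCast]
  let co : ι ↪ Module.Dual ℤ (lattice P) := ⟨rootZ P, fun i j e => by
    have h1 : P.pairing i j = 2 := by
      have := LinearMap.congr_fun e (rt j)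
      rw [hval, hval] at this
      rw [← P.algebraMap_pairingIn ℤ, this, P.algebraMap_pairingIn ℤ, P.pairing_same]
    have h2 : P.pairing j i = 2 := by
      have := LinearMap.congr_fun e (rt i)
      rw [hval, hval] at this
      rw [← P.algebraMap_pairingIn ℤ, ← this, P.algebraMap_pairingIn ℤ, P.pairing_same]
    haveI : Module.IsReflexive R M := .of_isPerfPair P.toLinearMap
    exact (P.pairing_two_two_iff i j).1 ⟨h1, h2⟩⟩
  refine ⟨{ toLinearMap := Module.Dual.eval ℤ (lattice P)
            root := rt
            coroot := co
            root_coroot_two := fun i => ?_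
            reflectionPerm := P.reflectionPerm
            reflectionPerm_root := fun i j => ?_
            reflectionPerm_coroot := fun i j => ?_ }, fun i => rfl, fun i j => rfl, fun i j => hval j i⟩
  · show rootZ P i (rt i) = 2
    rw [hval, P.pairingIn_same]
  · apply Subtype.ext
    show P.coroot j - (rootZ P i (rt j) • P.coroot i) = P.coroot (P.reflectionPerm i j)
    rw [hval, P.coroot_reflectionPerm, P.coreflection_apply_coroot, ← P.algebraMap_pairingIn ℤ i j,
      algebraMap_smul]
  · refine LinearMap.ext fun x => Int.cast_injective (α := R) ?_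
    show ((rootZ P j x - rootZ P j (rt i) * rootZ P i x : ℤ) : R) = (rootZ P (P.reflectionPerm i j) x : R)
    rw [Int.cast_sub, Int.cast_mul, rootZ_spec, rootZ_spec, rootZ_spec, rootZ_spec]
    show P.root' j (x : N) - P.root' j (P.coroot i) * P.root' i (x : N) =
      P.toLinearMap (P.root (P.reflectionPerm i j)) (x : N)
    rw [P.root'_coroot_eq_pairing, P.root_reflectionPerm, P.reflection_apply_root, map_sub, map_smul,
      LinearMap.sub_apply, LinearMap.smul_apply, smul_eq_mul]

end RootSysLib.LatticeZ
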