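/-
Morphisms of root data, parabolic words.
-/
import Groth.Agent.RootSys.Lengths
import Mathlib.LinearAlgebra.FreeModule.Finite.Quotient

set_option autoImplicit false

namespace RootSysLib

open RootPairing RootBasicLib

variable {ι M N : Type*} [AddCommGroup M] [AddCommGroup N] {P : RootPairing ι ℤ M N}

theorem exists_nsmul_mem_of_rank [Module.Finite ℤ M]
    (hss : Module.finrank ℤ (Submodule.span ℤ (Set.range P.root)) = Module.finrank ℤ M) :
    Finite (M ⧸ Submodule.span ℤ (Set.range P.root)) ∧
      ∀ x : M, ∃ n : ℕ, 0 < n ∧ n • x ∈ Submodule.span ℤ (Set.range P.root) := by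
  have : Module.IsTorsionFree ℤ M := torsionFree P
  have : Module.Free ℤ M := Module.free_of_finite_type_torsion_free'
  have hfin := Submodule.finiteQuotientOfFreeOfRankEq _ hss
  refine ⟨hfin, fun x => ⟨Nat.card (M ⧸ Submodule.span ℤ (Set.range P.root)), Nat.card_pos, ?_⟩⟩
  rw [← Submodule.Quotient.mk_eq_zero, Submodule.Quotient.mk_smul]
  exact card_nsmul_eq_zero'

variable [Finite ι]

theorem closure_induction_reduced {Δ Δ' : Set ι} (hΔ : RootD.IsSimpleSys P Δ) (hsub : Δ' ⊆ Δ)
    {p : P.Aut → Prop} (h1 : p 1)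
    (hstep : ∀ g ∈ Subgroup.closure ((fun i : ι => Equiv.reflection P i) '' Δ'), ∀ a ∈ Δ',
      g • a ∈ RootD.posOf P Δ → p g → p (g * Equiv.reflection P a))
    {g : P.Aut} (hg : g ∈ Subgroup.closure ((fun i : ι => Equiv.reflection P i) '' Δ')) : p g := by
  have hS := isPosSys_posOf hΔ
  have hW : ∀ g ∈ Subgroup.closure ((fun i : ι => Equiv.reflection P i) '' Δ'), g ∈ P.weylGroup :=
    fun g hg => (Subgroup.closure_le _).2 (by rintro _ ⟨i, -, rfl⟩; exact reflection_mem i) hg
  induction hn : {k | k ∈ RootD.posOf P Δ ∧ g • k ∉ RootD.posOf P Δ}.ncard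
      using Nat.strong_induction_on generalizing g with
  | _ n ih =>
    by_cases hall : ∀ a ∈ Δ, g • a ∈ RootD.posOf P Δ
    · rw [eq_one_of_preserves hΔ (hW g hg) hall]; exact h1
    push Not at hall
    obtain ⟨a, ha, hga⟩ := hall
    have haΔ' : a ∈ Δ' := by
      by_contra hcon
      refine hga (mem_posOf_of_coef_pos hΔ (a := a) ?_)
      rw [coef_smul_eq hΔ hsub hg a a hcon, coef_self hΔ ha, Finsupp.single_eq_same]
      exact one_pos
    have hs : Equiv.reflection P a ∈ Subgroup.closure ((fun i : ι => Equiv.reflection P i) '' Δ') :=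
      Subgroup.subset_closure ⟨a, haΔ', rfl⟩
    have hp : (g * Equiv.reflection P a) • a ∈ RootD.posOf P Δ := by
      rw [mul_smul, reflection_smul_idx, smul_neg_idx]
      exact (notMem_iff hS).1 hga
    have hlt : {k | k ∈ RootD.posOf P Δ ∧ (g * Equiv.reflection P a) • k ∉ RootD.posOf P Δ}.ncard < n := by
      rw [← hn]
      refine lt_of_le_of_lt ?_ (Set.ncard_sdiff_singleton_lt_of_mem (a := a)
        ⟨self_subset_posOf Δ ha, hga⟩ (Set.toFinite _))
      refine Set.ncard_le_ncard_of_injOn (fun k => P.reflectionPerm a k) ?_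
        (fun x _ y _ e => (P.reflectionPerm a).injective e) (Set.toFinite _)
      rintro k ⟨hk, hgk⟩
      rw [mul_smul, reflection_smul_idx] at hgk
      rcases reflect_mem_posOf_or hΔ ha hk with h | ⟨c, hc, he⟩
      · refine ⟨⟨h, hgk⟩, fun hxa => ?_⟩
        change P.reflectionPerm a k = a at hxa
        have hka : k = P.reflectionPerm a a := by
          apply (P.reflectionPerm a).injective
          rw [hxa, P.reflectionPerm_self]
        rw [hka] at hk
        exact neg_notMem_posOf hΔ (self_subset_posOf Δ ha) hk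
      · refine absurd (natSpan_subset hS ?_) hgk
        rw [root_smul, P.root_reflectionPerm, he, map_zsmul, P.reflection_apply_self, map_smul_zsmul,
          smul_neg, ← root_smul, ← root_neg, ← Int.toNat_of_nonneg hc.le, natCast_zsmul]
        exact nsmul_mem (root_mem_natSpan ((notMem_iff hS).1 hga)) _
    have := hstep _ (mul_mem hg hs) a haΔ' hp (ih _ hlt (mul_mem hg hs) rfl)
    rwa [mul_assoc, show Equiv.reflection P a * Equiv.reflection P a = 1 by
      rw [mul_eq_one_iff_eq_inv, reflection_inv], mul_one] at this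

/-- An automorphism fixing two roots and moving vectors only inside their span is trivial. -/
theorem eq_one_of_fix_pair {u : P.Aut} {i j : ι} (hi : u • i = i) (hj : u • j = j)
    (hm : ∀ m : M, u • m - m ∈ Submodule.span ℤ {P.root i, P.root j}) : u = 1 := by
  refine aut_ext fun m => ?_
  rw [one_smul, ← sub_eq_zero]
  set v := u • m - m
  have h0 : ∀ a, u • a = a → bform P v (P.root a) = 0 := by
    intro a ha
    have h := coroot'_smul_smul u a m
    rw [ha] at h
    have h2 := two_bform_apply_root P v a
    rw [show P.coroot' a v = 0 by rw [map_sub, h, sub_self], mul_zero] at h2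
    omega
  obtain ⟨p, q, hpq⟩ := Submodule.mem_span_pair.1 (hm m)
  have hL : v ∈ Submodule.span ℤ (Set.range P.root) :=
    Submodule.span_mono (by rintro x (rfl | rfl) <;> exact Set.mem_range_self _) (hm m)
  refine bform_self_eq_zero hL ?_
  have hpq' : p • P.root i + q • P.root j = v := hpq
  conv_lhs => arg 2; rw [← hpq']
  simp [h0 i hi, h0 j hj]

end RootSysLib
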