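/-
Quadratic maps invariant under coreflections.
-/
import Groth.Agent.RootBasic.Aut
import Mathlib.LinearAlgebra.RootSystem.Base
import Mathlib.LinearAlgebra.RootSystem.Irreducible
import Mathlib.LinearAlgebra.QuadraticForm.Basic

set_option autoImplicit false

namespace RootSysLib.QuadInv

open RootPairing

variable {ι R M N : Type*} [CommRing R] [AddCommGroup M] [Module R M] [AddCommGroup N] [Module R N]
  {P : RootPairing ι R M N}

theorem map_coreflection_sub (Q : QuadraticMap R N R) (j : ι) (y : N) :
    Q (P.coreflection j y) - Q y =
      P.root' j y * (P.root' j y * Q (P.coroot j) - QuadraticMap.polar Q y (P.coroot j)) := by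
  rw [P.coreflection_apply, sub_eq_add_neg y, ← neg_smul, QuadraticMap.map_add Q,
    QuadraticMap.map_smul, QuadraticMap.polar_smul_right, smul_eq_mul, smul_eq_mul]
  ring

variable [IsDomain R] [CharZero R]

theorem polar_eq_of_invariant (Q : QuadraticMap R N R) (j : ι) (D : Submodule R N)
    (hD : P.coroot j ∈ D) (h : ∀ y ∈ D, Q (P.coreflection j y) = Q y) {y : N} (hy : y ∈ D) :
    QuadraticMap.polar Q y (P.coroot j) = P.root' j y * Q (P.coroot j) := by
  have h0 : ∀ z ∈ D, P.root' j z *
      (P.root' j z * Q (P.coroot j) - QuadraticMap.polar Q z (P.coroot j)) = 0 := fun z hz => by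
    rw [← map_coreflection_sub, h z hz, sub_self]
  by_cases ha : P.root' j y = 0
  · have h1 := h0 (y + P.coroot j) (add_mem hy hD)
    have h2 := h0 (P.coroot j) hD
    rw [map_add, ha, zero_add, QuadraticMap.polar_add_left] at h1
    rw [ha, zero_mul]
    have hne : P.root' j (P.coroot j) ≠ 0 := by simp
    have e1 := (mul_eq_zero.1 h1).resolve_left hne
    have e2 := (mul_eq_zero.1 h2).resolve_left hne
    linear_combination e2 - e1
  · have := (mul_eq_zero.1 (h0 y hy)).resolve_left ha
    linear_combination -this

theorem invariant_of_simple [Finite ι] [P.IsCrystallographic] [P.IsReduced] (b : P.Base)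
    (Q : QuadraticMap R N R)
    (h : ∀ j ∈ b.support, ∀ y ∈ Submodule.span R (Set.range P.coroot),
      Q (P.coreflection j y) = Q y) (k : ι) :
    ∀ y ∈ Submodule.span R (Set.range P.coroot), Q (P.coreflection k y) = Q y := by
  have hspan : ∀ i, ∀ y ∈ Submodule.span R (Set.range P.coroot),
      P.coreflection i y ∈ Submodule.span R (Set.range P.coroot) := fun i y hy => by
    rw [P.coreflection_apply]
    exact sub_mem hy (Submodule.smul_mem _ _ (Submodule.subset_span (Set.mem_range_self i)))
  refine b.induction_reflect k (p := fun k => ∀ y ∈ Submodule.span R (Set.range P.coroot),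
    Q (P.coreflection k y) = Q y) ?_ h ?_
  · intro i hi y hy
    have hneg : P.coreflection (P.reflectionPerm i i) y = P.coreflection i y := by
      rw [P.coreflection_apply, P.coreflection_apply, P.coroot_reflectionPerm, P.coreflection_apply_self]
      have hr : P.root' (P.reflectionPerm i i) y = -P.root' i y := by
        show P.toLinearMap (P.root (P.reflectionPerm i i)) y = -P.toLinearMap (P.root i) y
        rw [P.root_reflectionPerm, P.reflection_apply_self, map_neg, LinearMap.neg_apply]
      rw [hr, neg_smul, smul_neg, neg_neg]
    rw [hneg]
    exact hi y hy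
  · intro i j hi hj y hy
    have he : P.coreflection (P.reflectionPerm j i) y =
        P.coreflection j (P.coreflection i (P.coreflection j y)) := by
      have hr : P.root' (P.reflectionPerm j i) y = P.root' i (P.coreflection j y) := by
        show P.toLinearMap (P.root (P.reflectionPerm j i)) y = P.toLinearMap (P.root i) (P.coreflection j y)
        rw [P.root_reflectionPerm, P.reflection_apply, P.coreflection_apply, map_sub, map_sub,
          map_smul, map_smul, LinearMap.sub_apply, LinearMap.smul_apply, smul_eq_mul, smul_eq_mul]
        simp only [RootPairing.coroot', RootPairing.root',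
          LinearMap.flip_apply]
        ring
      conv_rhs => rw [P.coreflection_apply i, map_sub, map_smul, P.coreflection_same]
      rw [P.coreflection_apply, hr, P.coroot_reflectionPerm]
    rw [he, h j hj _ (hspan _ _ (hspan _ _ hy)), hi _ (hspan _ _ hy), h j hj _ hy]

end RootSysLib.QuadInv
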